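import Cfsg.Agent.Lib.CharTheory.Clifford
import Cfsg.Agent.Lib.CharTheory.Linear
import Cfsg.Agent.Lib.Blocks.Central
import Cfsg.Agent.Lib.Coprime
import Cfsg.Agent.Lib.Basic
import Mathlib.GroupTheory.FiniteAbelian.Duality

/-!
# Real characters of `p'`-degree: generalities

A real character with an odd weighted number of constituents has a real constituent; hence a linear
character of a normal subgroup of odd order that some 2-element inverts lies below a real character.
-/

namespace CfsgLib.RealPPrime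

open Cfsg CfsgLib CfsgLib.CharTheory CfsgLib.Blocks
open scoped ComplexConjugate commutatorElement

set_option autoImplicit false
set_option linter.unusedSectionVars false
set_option linter.style.haveILetI false

universe u

variable {G : Type u} [Group G]

/-- The subgroup generated by the `p`-elements. -/
def primeClosure (p : ℕ) (G : Type u) [Group G] : Subgroup G :=
  Subgroup.closure {g : G | ∃ k : ℕ, orderOf g = p ^ k}

/-- All real irreducible characters have degree prime to `p`. -/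
def RealHyp (p : ℕ) (G : Type u) [Group G] : Prop :=
  ∀ χ : IrrCharacter G, (∀ g : G, ((χ : G → ℂ) g).im = 0) → ¬ p ∣ charDegree (χ : G → ℂ)

theorem mem_primeClosure {p : ℕ} {g : G} {k : ℕ} (h : orderOf g = p ^ k) : g ∈ primeClosure p G :=
  Subgroup.subset_closure ⟨k, h⟩

instance primeClosure_normal (p : ℕ) : (primeClosure p G).Normal := ⟨fun x hx g => by
  have h : (primeClosure p G).map (MulAut.conj g).toMonoidHom ≤ primeClosure p G := by
    rw [primeClosure, MonoidHom.map_closure]
    refine Subgroup.closure_mono ?_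
    rintro _ ⟨y, ⟨k, hk⟩, rfl⟩
    exact ⟨k, (orderOf_injective _ (MulAut.conj g).injective y).trans hk⟩
  exact h ⟨x, hx, rfl⟩⟩

theorem isPGroup_le_primeClosure {p : ℕ} [Fact p.Prime] {P : Subgroup G} (hP : IsPGroup p P) :
    P ≤ primeClosure p G := fun x hx => by
  obtain ⟨k, hk⟩ := IsPGroup.iff_orderOf.1 hP ⟨x, hx⟩
  exact mem_primeClosure (k := k) (by rw [← hk, Subgroup.orderOf_mk])

theorem primeClosure_map [Finite G] {H : Type u} [Group H] {p : ℕ} [hp : Fact p.Prime] (f : G →* H)
    (hf : Function.Surjective f) : (primeClosure p G).map f = primeClosure p H := by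
  refine le_antisymm ?_ ((Subgroup.closure_le _).2 ?_)
  · rw [primeClosure, MonoidHom.map_closure]
    refine Subgroup.closure_mono ?_
    rintro _ ⟨y, ⟨k, hk⟩, rfl⟩
    obtain ⟨j, -, hj⟩ := (Nat.dvd_prime_pow hp.out).1 (hk ▸ orderOf_map_dvd f y)
    exact ⟨j, hj⟩
  · rintro y ⟨k, hk⟩
    obtain ⟨x, rfl⟩ := hf y
    set m := orderOf x / p ^ (orderOf x).factorization p with hm
    have hm0 : ¬ p ∣ m := Nat.not_dvd_ordCompl hp.out (orderOf_pos x).ne'
    have hmne : m ≠ 0 := fun h => hm0 (by rw [h]; exact dvd_zero p)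
    have hxm : orderOf (x ^ m) = p ^ (orderOf x).factorization p := by
      rw [orderOf_pow' x hmne,
        Nat.gcd_eq_right (Nat.ordCompl_dvd (orderOf x) p)]
      exact Nat.div_eq_of_eq_mul_left (Nat.pos_of_ne_zero hmne)
        (Nat.ordProj_mul_ordCompl_eq_self (orderOf x) p).symm
    obtain ⟨j, hj⟩ := exists_pow_eq_self_of_coprime (x := f x) (n := m)
      (by rw [hk]; exact ((hp.out.coprime_iff_not_dvd.2 hm0).pow_left k).symm)
    show f x ∈ (primeClosure p G).map f
    rw [← hj, ← map_pow, ← map_pow]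
    exact ⟨(x ^ m) ^ j, pow_mem (mem_primeClosure hxm) j, rfl⟩

theorem odd_index_two [Finite G] : Odd (primeClosure 2 G).index := by
  haveI : Fact (Nat.Prime 2) := ⟨Nat.prime_two⟩
  obtain ⟨S⟩ : Nonempty (Sylow 2 G) := inferInstance
  rw [Nat.odd_iff, ← Nat.not_even_iff, even_iff_two_dvd]
  exact fun h => S.not_dvd_index (h.trans (Subgroup.index_dvd_of_le (isPGroup_le_primeClosure S.2)))

theorem charDegree_comp {H : Type u} [Group H] (f : G →* H) (χ : H → ℂ) :
    charDegree (fun g => χ (f g)) = charDegree χ := by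
  show ⌊(χ (f 1)).re⌋₊ = _
  rw [map_one]; rfl

theorem RealHyp.of_surjective {p : ℕ} {H : Type u} [Group H] (h : RealHyp p G) {f : G →* H}
    (hf : Function.Surjective f) : RealHyp p H := fun χ hχ =>
  (charDegree_comp f (χ : H → ℂ)) ▸ h ⟨fun g => (χ : H → ℂ) (f g), isIrrCharacter_comp_surjective χ.2 f hf⟩
    fun g => hχ (f g)

/-- A conjugation invariant weight with odd sum selects a real character. -/
theorem exists_real_of_odd_sum [Fintype G] (w : IrrCharacter G → ℕ)
    (hw : ∀ χ ψ : IrrCharacter G, (∀ g, (ψ : G → ℂ) g = conj ((χ : G → ℂ) g)) → w ψ = w χ)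
    (hodd : Odd (∑ χ : IrrCharacter G, w χ)) :
    ∃ χ : IrrCharacter G, (∀ g : G, ((χ : G → ℂ) g).im = 0) ∧ w χ ≠ 0 := by
  classical
  by_contra hno
  push Not at hno
  let cj : IrrCharacter G → IrrCharacter G := fun χ =>
    ⟨fun g => conj ((χ : G → ℂ) g), isIrrCharacter_conjChar χ.2⟩
  have h0 : ∑ χ : IrrCharacter G, (w χ : ZMod 2) = 0 := by
    refine Finset.sum_involution (fun χ _ => cj χ) (fun χ _ => ?_) (fun χ _ hne e => ?_)
      (fun χ _ => Finset.mem_univ _) (fun χ _ => Subtype.ext (funext fun g => Complex.conj_conj _))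
    · rw [hw χ (cj χ) fun g => rfl]
      exact ZMod.natCast_self 2 ▸ by rw [← Nat.cast_add, ← two_mul, Nat.cast_mul, Nat.cast_ofNat]; simp [show (2 : ZMod 2) = 0 from rfl]
    · exact hne (by
        rw [hno χ fun g => Complex.conj_eq_iff_im.1 (congrFun (congrArg Subtype.val e) g), Nat.cast_zero])
  rw [← Nat.cast_sum, ZMod.natCast_eq_zero_iff_even, ← Nat.not_odd_iff_even] at h0
  exact h0 hodd

variable [Finite G]

/-- A linear character of a normal subgroup of odd order inverted by a 2-element lies below a real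
character. -/
theorem exists_real_over [Fintype G] (M : Subgroup G) [M.Normal] [Fintype M]
    (hM : Odd (Nat.card M)) (lam : M →* ℂˣ) (w : G) {k : ℕ} (hw : orderOf w = 2 ^ k)
    (hinv : ∀ m m' : M, (m' : G) = w * m * w⁻¹ → lam m' = (lam m)⁻¹) :
    ∃ χ : IrrCharacter G, (∀ g : G, ((χ : G → ℂ) g).im = 0) ∧
      classInner (fun m : M => (χ : G → ℂ) m) (fun m : M => (lam m : ℂ)) ≠ 0 ∧
      (inertia M (fun m : M => (lam m : ℂ))).index ∣ charDegree (χ : G → ℂ) := by
  classical
  haveI : Fact (Nat.Prime 2) := ⟨Nat.prime_two⟩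
  set θ : M → ℂ := fun m => (lam m : ℂ) with hθ
  have hirr : IsIrrCharacter M θ := isIrrCharacter_linear lam
  set T := inertia M θ with hT
  have hMT : M ≤ T := le_inertia M (isClassFunction_irr hirr)
  have hmemT : ∀ g : G, g ∈ T ↔ ∀ m m' : M, (m' : G) = g * m * g⁻¹ → lam m' = lam m := by
    intro g
    rw [hT, mem_inertia]
    constructor
    · intro h m m' e
      have h1 := congrFun h m
      rw [show m' = ⟨g * m * g⁻¹, Subgroup.Normal.conj_mem inferInstance _ m.2 g⟩ from Subtype.ext e]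
      exact Units.ext h1
    · exact fun h => funext fun m => congrArg (fun u : ℂˣ => (u : ℂ)) (h m _ rfl)
  -- `w` normalises `T`
  have hwT : ∀ t ∈ T, w * t * w⁻¹ ∈ T := by
    intro t ht
    rw [hmemT] at ht ⊢
    intro m m' e
    set m₁ : M := ⟨w⁻¹ * m * w, by
      simpa using (inferInstance : M.Normal).conj_mem _ m.2 w⁻¹⟩ with hm₁
    set m₂ : M := ⟨t * m₁ * t⁻¹, Subgroup.Normal.conj_mem inferInstance _ m₁.2 t⟩ with hm₂
    have h1 := hinv m₁ m (by simp only [hm₁]; group)
    have h2 := hinv m₂ m' (by simp only [hm₂, hm₁, e]; group)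
    rw [h2, ht m₁ m₂ rfl, ← h1]
  set Z := Subgroup.zpowers w with hZ
  have hZT : Z ≤ Subgroup.normalizer (T : Set G) := by
    rw [hZ, Subgroup.zpowers_le, Subgroup.mem_normalizer_iff_map_conj_eq]
    refine Subgroup.eq_of_le_of_card_ge ?_ (le_of_eq ?_)
    · rintro _ ⟨t, ht, rfl⟩; exact hwT t ht
    · exact (Subgroup.card_map_of_injective (K := T) (MulEquiv.injective _)).symm
  set U := T ⊔ Z with hU
  have hwU : w ∈ U := Subgroup.mem_sup_right (Subgroup.mem_zpowers w)
  have hZp : IsPGroup 2 (Z.subgroupOf U) :=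
    (IsPGroup.of_card (G := Z) (by rw [Nat.card_zpowers, hw])).of_equiv
      (Subgroup.subgroupOfEquivOfLe le_sup_right).symm
  obtain ⟨S, hS⟩ := hZp.exists_le_sylow
  set T' := T.subgroupOf U with hT'
  haveI hT'n : T'.Normal := (Subgroup.normal_subgroupOf_iff_le_normalizer le_sup_left).2
    (sup_le Subgroup.le_normalizer hZT)
  set R := ((S : Subgroup U) ⊓ T').map U.subtype with hR
  have hRT : R ≤ T := by rintro _ ⟨x, hx, rfl⟩; exact hx.2
  have hRp : IsPGroup 2 R := (S.2.to_le inf_le_left).map _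
  have hwR : ∀ r ∈ R, w * r * w⁻¹ ∈ R := by
    rintro _ ⟨x, hx, rfl⟩
    refine ⟨⟨w, hwU⟩ * x * (⟨w, hwU⟩ : U)⁻¹, Subgroup.mem_inf.2 ⟨?_, hT'n.conj_mem x hx.2 _⟩, rfl⟩
    have hwS : (⟨w, hwU⟩ : U) ∈ (S : Subgroup U) := hS (Subgroup.mem_zpowers w)
    exact mul_mem (mul_mem hwS hx.1) (inv_mem hwS)
  -- `R` has odd index in `T`
  have hRodd : ¬ 2 ∣ R.relIndex T := by
    have h1 : R.relIndex T = ((S : Subgroup U) ⊓ T').relIndex T' := by
      rw [← Subgroup.relIndex_map_map_of_injective _ T' U.subtype_injective, ← hR, hT',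
        Subgroup.map_subgroupOf_eq_of_le le_sup_left]
    rw [h1, Subgroup.inf_relIndex_right]
    refine fun hd => S.not_dvd_index (hd.trans ?_)
    obtain ⟨e, he⟩ := Subgroup.relIndex_dvd_index_of_normal T' (S : Subgroup U)
    refine ⟨e, ?_⟩
    have e1 : Nat.card ↥((S : Subgroup U) ⊓ T') * T'.relIndex (S : Subgroup U) = Nat.card (S : Subgroup U) := by
      rw [← Subgroup.inf_relIndex_left (S : Subgroup U) T', ← Subgroup.relIndex_bot_left,
        ← Subgroup.relIndex_bot_left, Subgroup.relIndex_mul_relIndex _ _ _ bot_le inf_le_left]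
    have e2 : Nat.card ↥((S : Subgroup U) ⊓ T') * (S : Subgroup U).relIndex T' = Nat.card T' := by
      rw [← Subgroup.inf_relIndex_right (S : Subgroup U) T', ← Subgroup.relIndex_bot_left,
        ← Subgroup.relIndex_bot_left, Subgroup.relIndex_mul_relIndex _ _ _ bot_le inf_le_right]
    refine Nat.eq_of_mul_eq_mul_left (Nat.card_pos (α := ↥(S : Subgroup U))) ?_
    rw [Subgroup.card_mul_index, ← Subgroup.card_mul_index T', he, ← e1, ← e2]
    ring
  have hMR : ∀ x ∈ M, x ∈ R → x = 1 := fun x hxM hxR => by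
    rw [← orderOf_eq_one_iff]
    obtain ⟨j, hj⟩ := IsPGroup.iff_card.1 hRp
    exact Nat.eq_one_of_dvd_coprimes
      (show (Nat.card M).Coprime (Nat.card R) by
        rw [hj]; exact (Nat.coprime_two_right.2 hM).pow_right j)
      (Subgroup.orderOf_dvd_natCard _ hxM) (Subgroup.orderOf_dvd_natCard _ hxR)
  -- the linear character of `Y = M R`
  set Y := M ⊔ R with hY
  haveI := Fintype.ofFinite Y
  have hdec : ∀ y : Y, ∃ m : M, (m : G)⁻¹ * y ∈ R := by
    intro y
    obtain ⟨m, hm, r, hr, e⟩ := Subgroup.mem_sup_of_normal_left.1 y.2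
    exact ⟨⟨m, hm⟩, by rw [← e, inv_mul_cancel_left]; exact hr⟩
  choose f hf using hdec
  have huniq : ∀ (y : Y) (m : M), (m : G)⁻¹ * y ∈ R → f y = m := fun y m hm => by
    have h1 : (f y : G)⁻¹ * m ∈ M := mul_mem (inv_mem (f y).2) m.2
    have h2 : (f y : G)⁻¹ * m ∈ R := by simpa [mul_assoc] using mul_mem (hf y) (inv_mem hm)
    exact Subtype.ext (inv_mul_eq_one.1 (hMR _ h1 h2))
  let μ : Y →* ℂˣ :=
    { toFun := fun y => lam (f y)
      map_one' := by
        rw [huniq 1 1 (by simp)]
        exact map_one lam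
      map_mul' := fun a b => by
        set c : M := ⟨((f a : G)⁻¹ * a) * f b * ((f a : G)⁻¹ * a)⁻¹,
          (inferInstance : M.Normal).conj_mem _ (f b).2 _⟩ with hc
        have hab' : f (a * b) = f a * c := huniq _ _ (by
          have := mul_mem (hf a) (hf b)
          convert this using 1
          simp only [hc, Subgroup.coe_mul]
          group)
        rw [hab', map_mul]
        exact congrArg (lam (f a) * ·) ((hmemT _).1 (hRT (hf a)) (f b) c rfl) }
  have hμM : ∀ m : M, μ ⟨m, Subgroup.mem_sup_left m.2⟩ = lam m := fun m => by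
    show lam (f _) = lam m
    rw [huniq ⟨m, Subgroup.mem_sup_left m.2⟩ m (by simp)]
  -- `w` inverts `μ`
  have hμw : ∀ y : Y, ∀ h : w * y * w⁻¹ ∈ Y, μ ⟨w * y * w⁻¹, h⟩ = (μ y)⁻¹ := by
    intro y h
    set m' : M := ⟨w * f y * w⁻¹, (inferInstance : M.Normal).conj_mem _ (f y).2 w⟩ with hm'
    show lam (f _) = (lam (f y))⁻¹
    rw [huniq ⟨w * y * w⁻¹, h⟩ m' (by
      have := hwR _ (hf y)
      convert this using 1
      simp only [hm']
      group)]
    exact hinv (f y) m' rfl
  have hwY : ∀ y ∈ Y, w * y * w⁻¹ ∈ Y := by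
    intro y hy
    obtain ⟨m, hm, r, hr, rfl⟩ := Subgroup.mem_sup_of_normal_left.1 hy
    rw [show w * (m * r) * w⁻¹ = (w * m * w⁻¹) * (w * r * w⁻¹) by group]
    exact mul_mem (Subgroup.mem_sup_left ((inferInstance : M.Normal).conj_mem m hm w))
      (Subgroup.mem_sup_right (hwR r hr))
  have hnorm : ∀ u : ℂˣ, (∃ y : Y, μ y = u) → conj (u : ℂ) = ((u⁻¹ : ℂˣ) : ℂ) := by
    rintro u ⟨y, rfl⟩
    have h1 : ‖(μ y : ℂ)‖ = 1 := Complex.norm_eq_one_of_pow_eq_one
      (by rw [← Units.val_pow_eq_pow_val, ← map_pow, pow_orderOf_eq_one, map_one, Units.val_one])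
      (orderOf_pos y).ne'
    rw [Units.val_inv_eq_inv_val, Complex.inv_eq_conj h1]
  set ψ : Y → ℂ := fun y => (μ y : ℂ) with hψ
  set F := indFun Y ψ with hF
  have hFchar : IsCharacter G F := isCharacter_indFun Y (isCharacter_of_irr (isIrrCharacter_linear μ))
  have hzero : ∀ x : G, x ∈ Y → w⁻¹ * x * w ∈ Y := by
    intro x hx
    have hmap : Y.map (MulAut.conj w).toMonoidHom = Y := by
      refine Subgroup.eq_of_le_of_card_ge ?_ (le_of_eq ?_)
      · rintro _ ⟨t, ht, rfl⟩; exact hwY t ht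
      · exact (Subgroup.card_map_of_injective (K := Y) (MulEquiv.injective _)).symm
    have hx' : x ∈ Y.map (MulAut.conj w).toMonoidHom := hmap.symm ▸ hx
    obtain ⟨t, ht, rfl⟩ := hx'
    simpa [mul_assoc] using ht
  have hFreal : ∀ g : G, conj (F g) = F g := by
    intro g
    simp only [hF, indFun, map_mul, map_inv₀, map_natCast, map_sum]
    congr 1
    refine Fintype.sum_equiv (Equiv.mulRight w⁻¹) _ _ fun x => ?_
    rw [Equiv.coe_mulRight, show (x * w⁻¹)⁻¹ * g * (x * w⁻¹) = w * (x⁻¹ * g * x) * w⁻¹ by group]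
    by_cases hy : x⁻¹ * g * x ∈ Y
    · rw [extendByZero_of_mem Y ψ hy, extendByZero_of_mem Y ψ (hwY _ hy)]
      rw [hψ]
      simp only
      rw [hnorm _ ⟨_, rfl⟩, ← hμw ⟨_, hy⟩ (hwY _ hy)]
    · rw [extendByZero_of_not_mem Y ψ hy, extendByZero_of_not_mem Y ψ fun h => hy (by
        simpa [mul_assoc] using hzero _ h), map_zero]
  choose c hc using fun χ : IrrCharacter G => classInner_char_nat hFchar (isCharacter_of_irr χ.2)
  have hover : ∀ χ : IrrCharacter G, c χ ≠ 0 → classInner (fun m : M => (χ : G → ℂ) m) θ ≠ 0 := by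
    intro χ hcχ
    have hres : classInner (fun y : Y => (χ : G → ℂ) y) ψ ≠ 0 := by
      intro h0
      have h1 := hc χ
      rw [hF, frobenius_reciprocity _ _ (isClassFunction_irr χ.2), ← classInner_comm, h0, map_zero] at h1
      exact hcχ (by exact_mod_cast h1.symm)
    have hR := isCharacter_sub_irr (isCharacter_restrict (isCharacter_of_irr χ.2) Y)
      (isIrrCharacter_linear μ) hres
    obtain ⟨n, hn⟩ := classInner_char_nat
      (isCharacter_comp hR (Subgroup.inclusion (le_sup_left : M ≤ Y))) (isCharacter_of_irr hirr)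
    rw [show (fun m : M => (χ : G → ℂ) m) =
      (fun m : M => ((fun y : Y => (χ : G → ℂ) y) - ψ) (Subgroup.inclusion le_sup_left m)) + θ from
      funext fun m => by
        have := hμM m
        simp only [Pi.add_apply, Pi.sub_apply, hψ, hθ, Subgroup.coe_inclusion]
        rw [show Subgroup.inclusion (le_sup_left : M ≤ Y) m = ⟨m, Subgroup.mem_sup_left m.2⟩ from rfl, this]
        ring,
      classInner_add_left, hn, classInner_irr_self hirr]
    exact_mod_cast Nat.succ_ne_zero n
  have hdvd : ∀ χ : IrrCharacter G, c χ ≠ 0 → T.index ∣ charDegree (χ : G → ℂ) := by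
    intro χ hcχ
    obtain ⟨e, he⟩ := classInner_char_nat (isCharacter_restrict (isCharacter_of_irr χ.2) M)
      (isCharacter_of_irr hirr)
    have h1 := clifford_degree M χ.2 hirr (hover χ hcχ)
    rw [he, ← irr_charDegree_cast, show θ 1 = 1 by simp [hθ], mul_one] at h1
    exact ⟨e, by rw [mul_comm]; exact_mod_cast h1⟩
  have hT0 : 0 < T.index := Nat.pos_of_ne_zero Subgroup.index_ne_zero_of_finite
  have hYT : Y ≤ T := sup_le hMT hRT
  have hsum : ∑ χ : IrrCharacter G, c χ * (charDegree (χ : G → ℂ) / T.index) = Y.relIndex T := by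
    apply Nat.eq_of_mul_eq_mul_right hT0
    rw [Finset.sum_mul, Subgroup.relIndex_mul_index hYT]
    have h1 := congrFun (eq_sum_irr (indFun_isClassFunction Y ψ)) 1
    have hψ1 : ψ 1 = 1 := by simp [hψ]
    simp only [Finset.sum_apply, Pi.smul_apply, smul_eq_mul, ← hF, hc, ← irr_charDegree_cast,
      hF ▸ indFun_apply_one Y ψ, hψ1, mul_one] at h1
    have h2 : Y.index = ∑ χ : IrrCharacter G, c χ * charDegree (χ : G → ℂ) := by exact_mod_cast h1
    rw [h2]
    refine Finset.sum_congr rfl fun χ _ => ?_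
    rcases eq_or_ne (c χ) 0 with h0 | h0
    · rw [h0, zero_mul, zero_mul, zero_mul]
    · rw [mul_assoc, Nat.div_mul_cancel (hdvd χ h0)]
  have hodd : Odd (∑ χ : IrrCharacter G, c χ * (charDegree (χ : G → ℂ) / T.index)) := by
    rw [hsum, Nat.odd_iff, ← Nat.not_even_iff, even_iff_two_dvd]
    exact fun h => hRodd (h.trans (Subgroup.relIndex_dvd_of_le_left T le_sup_right))
  obtain ⟨χ, hχr, hχw⟩ := exists_real_of_odd_sum (fun χ => c χ * (charDegree (χ : G → ℂ) / T.index))
    (fun χ χ' e => by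
      have hd : charDegree (χ' : G → ℂ) = charDegree (χ : G → ℂ) := by
        show ⌊((χ' : G → ℂ) 1).re⌋₊ = ⌊((χ : G → ℂ) 1).re⌋₊
        rw [e 1, Complex.conj_re]
      have hc' : (c χ' : ℂ) = (c χ : ℂ) := by
        rw [← hc, ← Complex.conj_natCast, ← hc]
        simp only [classInner, map_mul, map_sum, map_inv₀, map_natCast, Complex.conj_conj, e]
        congr 1
        exact Finset.sum_congr rfl fun g _ => by rw [hFreal g]
      rw [hd, Nat.cast_injective hc']) hodd
  exact ⟨χ, hχr, hover χ (left_ne_zero_of_mul hχw), hdvd χ (left_ne_zero_of_mul hχw)⟩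

end CfsgLib.RealPPrime
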