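import Cfsg.Agent.Lib.CharTheory.RealOver
import Cfsg.Agent.Lib.RealOdd.Basic

/-!
# The real character over a real character of a normal subgroup of odd index
-/

namespace CfsgLib.RealPPrime

open Cfsg CfsgLib CfsgLib.CharTheory CfsgLib.CharTheory.RealOver
open scoped ComplexConjugate

set_option autoImplicit false
set_option linter.unusedSectionVars false
set_option linter.style.haveILetI false

universe u

variable {G : Type u} [Group G] [Fintype G] (N : Subgroup G) [N.Normal] [Fintype N]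

/-- Above a real character of a normal subgroup of odd index lies exactly one real character, and its
multiplicity is one. -/
theorem exists_unique_real (hodd : Odd N.index) (φ : IrrCharacter N)
    (hreal : ∀ a : N, conj ((φ : N → ℂ) a) = (φ : N → ℂ) a) :
    ∃ χ : IrrCharacter G, (∀ g, conj ((χ : G → ℂ) g) = (χ : G → ℂ) g) ∧
      classInner (fun n : N => (χ : G → ℂ) n) (φ : N → ℂ) = 1 ∧
      ∀ χ' : IrrCharacter G, (∀ g, conj ((χ' : G → ℂ) g) = (χ' : G → ℂ) g) →
        classInner (fun n : N => (χ' : G → ℂ) n) (φ : N → ℂ) ≠ 0 → χ' = χ := by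
  classical
  have hNc : (Nat.card N : ℂ) ≠ 0 := Nat.cast_ne_zero.2 Nat.card_pos.ne'
  have hGc : (Nat.card G : ℂ) ≠ 0 := Nat.cast_ne_zero.2 Nat.card_pos.ne'
  obtain ⟨ε, hε, hφ⟩ : ∃ ε : ℂ, (ε = 1 ∨ ε = -1) ∧ ∑ a : N, (φ : N → ℂ) (a * a) = ε * (Nat.card N : ℂ) := by
    obtain ⟨k, ρ, hρ, hρφ⟩ := φ.2
    haveI := hρ
    rcases frobenius_schur ρ with ⟨h0, -⟩ | ⟨ε, hε, -, h, -⟩
    · exfalso
      rw [hρφ] at h0
      have h1 := classInner_irr_self φ.2
      simp only [classInner, hreal, h0, mul_zero] at h1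
      exact zero_ne_one h1
    · exact ⟨ε, hε, hρφ ▸ h⟩
  set s : ℕ := (conjOrbit N (φ : N → ℂ)).card with hs
  choose e he using fun χ : IrrCharacter G =>
    classInner_char_nat (isCharacter_restrict (isCharacter_of_irr χ.2) N) (isCharacter_of_irr φ.2)
  have hres : ∀ χ ∈ overSet N (φ : N → ℂ), ∀ n : N,
      (χ : G → ℂ) (n : G) = (e χ : ℂ) * ∑ θ ∈ conjOrbit N (φ : N → ℂ), θ n := by
    intro χ hχ n
    have h := congrFun (clifford N χ.2 φ.2 ((mem_overSet N).1 hχ)) n
    simp only [Pi.smul_apply, Finset.sum_apply, smul_eq_mul, he] at h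
    exact h
  have hOreal : ∀ n : N, conj (∑ θ ∈ conjOrbit N (φ : N → ℂ), θ n) = ∑ θ ∈ conjOrbit N (φ : N → ℂ), θ n := by
    intro n
    rw [map_sum]
    refine Finset.sum_congr rfl fun θ hθ => ?_
    obtain ⟨g, rfl⟩ := (mem_conjOrbit N).1 hθ
    exact hreal _
  have hnorm : ∀ χ ∈ overSet N (φ : N → ℂ),
      ∑ n : N, (χ : G → ℂ) n * (χ : G → ℂ) n = (Nat.card N : ℂ) * ((e χ : ℂ) ^ 2 * (s : ℂ)) := by
    intro χ hχ
    have h2 : classInner (fun n : N => (χ : G → ℂ) n) (fun n : N => (χ : G → ℂ) n) =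
        (e χ : ℂ) ^ 2 * (s : ℂ) := by
      rw [show classInner (fun n : N => (χ : G → ℂ) n) (fun n : N => (χ : G → ℂ) n) = _ from
        congrArg (classInner (fun n : N => (χ : G → ℂ) n)) (clifford N χ.2 φ.2 ((mem_overSet N).1 hχ))]
      rw [classInner_smul_right, classInner_sum_right, he, map_natCast]
      rw [Finset.sum_congr rfl fun θ hθ => show classInner (fun n : N => (χ : G → ℂ) n) θ = (e χ : ℂ) by
        obtain ⟨g, rfl⟩ := (mem_conjOrbit N).1 hθ
        rw [classInner_res_conjNormFun N g (isClassFunction_irr χ.2), he], Finset.sum_const, nsmul_eq_mul]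
      ring
    rw [← h2, classInner, mul_inv_cancel_left₀ hNc]
    refine Finset.sum_congr rfl fun n _ => ?_
    congr 1
    rw [hres χ hχ n, map_mul, map_natCast, hOreal]
  have hind : ∀ g : G, indFun N (φ : N → ℂ) g = ∑ χ ∈ overSet N (φ : N → ℂ), (e χ : ℂ) * (χ : G → ℂ) g := by
    intro g
    have h := congrFun (eq_sum_irr (indFun_isClassFunction N (φ : N → ℂ))) g
    have e1 : ∀ χ : IrrCharacter G, classInner (indFun N (φ : N → ℂ)) (χ : G → ℂ) = (e χ : ℂ) := by
      intro χ
      rw [frobenius_reciprocity N _ (isClassFunction_irr χ.2), ← classInner_comm, he, map_natCast]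
    simp only [Finset.sum_apply, Pi.smul_apply, smul_eq_mul, e1] at h
    rw [h]
    refine (Finset.sum_subset (Finset.subset_univ _) fun χ _ hχ => ?_).symm
    rw [mem_overSet, not_not, he] at hχ
    rw [hχ, zero_mul]
  have hse : (s : ℂ) * ∑ χ ∈ overSet N (φ : N → ℂ), (e χ : ℂ) ^ 2 = (N.index : ℂ) := by
    have h := hind 1
    rw [indFun_apply_one] at h
    have h0 : (φ : N → ℂ) 1 ≠ 0 := irr_ne_zero φ.2
    apply mul_right_cancel₀ h0
    rw [h, Finset.mul_sum, Finset.sum_mul]
    refine Finset.sum_congr rfl fun χ hχ => ?_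
    have h1 := hres χ hχ 1
    rw [Subgroup.coe_one] at h1
    rw [h1, Finset.sum_congr rfl fun θ hθ => show θ (1 : N) = (φ : N → ℂ) 1 by
      obtain ⟨g, rfl⟩ := (mem_conjOrbit N).1 hθ
      exact conjNormFun_apply_one N g _, Finset.sum_const, nsmul_eq_mul, ← hs]
    ring
  -- exactly one real character over `φ`
  have hT : ∑ χ ∈ overSet N (φ : N → ℂ), ∑ g : G, (χ : G → ℂ) g * (χ : G → ℂ) g = (Nat.card G : ℂ) := by
    rw [Finset.sum_comm]
    rw [show ∑ g : G, ∑ χ ∈ overSet N (φ : N → ℂ), (χ : G → ℂ) g * (χ : G → ℂ) g =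
        ∑ n : N, ∑ χ ∈ overSet N (φ : N → ℂ), (χ : G → ℂ) n * (χ : G → ℂ) n from ?_]
    · rw [Finset.sum_comm, Finset.sum_congr rfl hnorm, ← Finset.mul_sum, ← Finset.sum_mul,
        mul_comm _ (s : ℂ), hse, ← Nat.cast_mul, Subgroup.card_mul_index]
    rw [← Finset.sum_subset (Finset.subset_univ (Finset.univ.filter (fun g : G => g ∈ N)))
      (fun g _ hg => sum_sq_eq_zero N φ.2 hodd (by simpa using hg))]
    exact Finset.sum_subtype _ (fun g => by simp) _
  have hsq : ∀ χ : IrrCharacter G, (∀ g, conj ((χ : G → ℂ) g) = (χ : G → ℂ) g) →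
      ∑ g : G, (χ : G → ℂ) g * (χ : G → ℂ) g = (Nat.card G : ℂ) := by
    intro χ hr
    have h := classInner_irr_self χ.2
    simp only [classInner, hr] at h
    field_simp at h
    simpa only [pow_two] using h
  have hns : ∀ χ : IrrCharacter G, ¬ (∀ g, conj ((χ : G → ℂ) g) = (χ : G → ℂ) g) →
      ∑ g : G, (χ : G → ℂ) g * (χ : G → ℂ) g = 0 := by
    intro χ hr
    have h := classInner_irr_ne χ.2 (isIrrCharacter_conjChar χ.2) (fun e => hr fun g => (congrFun e g).symm)
    simp only [classInner, Complex.conj_conj, mul_eq_zero, inv_eq_zero, hGc, false_or] at h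
    exact h
  set R := (overSet N (φ : N → ℂ)).filter (fun χ : IrrCharacter G => ∀ g, conj ((χ : G → ℂ) g) = (χ : G → ℂ) g) with hR
  have hR1 : R.card = 1 := by
    rw [← Finset.sum_filter_add_sum_filter_not (overSet N (φ : N → ℂ))
      (fun χ : IrrCharacter G => ∀ g, conj ((χ : G → ℂ) g) = (χ : G → ℂ) g), ← hR,
      Finset.sum_congr rfl (fun χ hχ => hsq χ (Finset.mem_filter.1 hχ).2),
      Finset.sum_eq_zero (s := Finset.filter (fun χ : IrrCharacter G =>
        ¬ ∀ g, conj ((χ : G → ℂ) g) = (χ : G → ℂ) g) (overSet N (φ : N → ℂ)))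
        (fun χ hχ => hns χ (Finset.mem_filter.1 hχ).2),
      add_zero, Finset.sum_const, nsmul_eq_mul, mul_eq_right₀ hGc] at hT
    exact_mod_cast hT
  obtain ⟨χ₀, hχ₀⟩ := Finset.card_eq_one.1 hR1
  have hχ₀m : χ₀ ∈ overSet N (φ : N → ℂ) :=
    (Finset.mem_filter.1 (show χ₀ ∈ R by rw [hχ₀]; exact Finset.mem_singleton_self _)).1
  have honly : ∀ χ ∈ overSet N (φ : N → ℂ), ∑ g : G, (χ : G → ℂ) (g * g) ≠ 0 → χ = χ₀ := by
    intro χ hχ hne
    have : χ ∈ R := Finset.mem_filter.2 ⟨hχ, real_of_indicator χ hne⟩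
    rwa [hχ₀, Finset.mem_singleton] at this
  -- the indicators of the constituents of the induced character
  have hV : ∑ g : G, indFun N (φ : N → ℂ) (g * g) = ε * (Nat.card G : ℂ) := by
    rw [← Finset.sum_subset (Finset.subset_univ (Finset.univ.filter (fun g : G => g ∈ N)))
      (fun g _ hg => ?_), Finset.sum_subtype _ (p := fun g : G => g ∈ N) (fun g => by simp) _]
    · rw [show ∑ a : N, indFun N (φ : N → ℂ) ((a : G) * (a : G)) =
          ∑ a : N, (Nat.card N : ℂ)⁻¹ * ∑ x : G, (φ : N → ℂ) ((MulAut.conjNormal x a : N) * (MulAut.conjNormal x a : N)) from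
        Finset.sum_congr rfl fun a _ => by
          rw [show ((a : G) * (a : G)) = ((a * a : N) : G) from rfl, indFun_normal_apply]
          refine congrArg _ (Finset.sum_congr rfl fun x _ => congrArg _ (Subtype.ext ?_))
          simp [MulAut.conjNormal_apply]]
      rw [← Finset.mul_sum, Finset.sum_comm,
        Finset.sum_congr rfl fun x _ => show ∑ a : N, (φ : N → ℂ) ((MulAut.conjNormal x a : N) * (MulAut.conjNormal x a : N)) =
          ε * (Nat.card N : ℂ) from (Fintype.sum_equiv (MulAut.conjNormal x : N ≃* N).toEquiv _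
            (fun b : N => (φ : N → ℂ) (b * b)) fun a => rfl).trans hφ,
        Finset.sum_const, Finset.card_univ, nsmul_eq_mul, Nat.card_eq_fintype_card (α := G)]
      field_simp
    · simp only [Finset.mem_filter, Finset.mem_univ, true_and] at hg
      refine indFun_normal_apply_not_mem N _ fun h2 => hg ?_
      have hoc : Nat.Coprime 2 (orderOf (g : G ⧸ N)) := Nat.coprime_two_left.2
        (hodd.of_dvd_nat (Subgroup.index_eq_card N ▸ orderOf_dvd_natCard _))
      obtain ⟨j, hj⟩ := exists_pow_eq_self_of_coprime hoc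
      rw [← QuotientGroup.eq_one_iff, ← hj, ← QuotientGroup.mk_pow, (QuotientGroup.eq_one_iff _).2 (by rwa [pow_two]), one_pow]
  rw [Finset.sum_congr rfl fun g _ => hind (g * g), Finset.sum_comm] at hV
  simp only [← Finset.mul_sum] at hV
  rw [Finset.sum_eq_single_of_mem χ₀ hχ₀m (fun χ hχ hne => by
    rw [by_contra fun h => hne (honly χ hχ h), mul_zero])] at hV
  obtain ⟨k, ρ, hρ, hρχ⟩ := χ₀.2
  haveI := hρ
  have hν : e χ₀ = 1 := by
    rcases frobenius_schur ρ with ⟨-, h⟩ | ⟨ε', hε', -, h, -⟩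
    · rw [hρχ] at h
      rw [h, mul_zero] at hV
      exfalso
      rcases hε with rfl | rfl
      · rw [one_mul] at hV; exact hGc hV.symm
      · rw [neg_one_mul] at hV; exact hGc (neg_eq_zero.1 hV.symm)
    · rw [hρχ] at h
      rw [h] at hV
      have h2 : (e χ₀ : ℂ) * ε' = ε := mul_right_cancel₀ hGc (by linear_combination hV)
      rcases hε' with rfl | rfl <;> rcases hε with rfl | rfl
      · rw [mul_one] at h2; exact_mod_cast h2
      · rw [mul_one] at h2
        have : ((e χ₀ + 1 : ℕ) : ℂ) = 0 := by push_cast; linear_combination h2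
        exact absurd this (Nat.cast_ne_zero.2 (Nat.succ_ne_zero _))
      · rw [mul_neg_one] at h2
        have : ((e χ₀ + 1 : ℕ) : ℂ) = 0 := by push_cast; linear_combination -h2
        exact absurd this (Nat.cast_ne_zero.2 (Nat.succ_ne_zero _))
      · rw [mul_neg_one, neg_inj] at h2; exact_mod_cast h2
  refine ⟨χ₀, (Finset.mem_filter.1 (show χ₀ ∈ R by rw [hχ₀]; exact Finset.mem_singleton_self _)).2,
    by rw [he, hν, Nat.cast_one], fun χ' hr hm => ?_⟩
  have : χ' ∈ R := Finset.mem_filter.2 ⟨(mem_overSet N).2 hm, hr⟩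
  rwa [hχ₀, Finset.mem_singleton] at this

/-- A real character has a real constituent on a normal subgroup of odd index. -/
theorem exists_real_constituent (hodd : Odd N.index) (χ : IrrCharacter G)
    (hr : ∀ g, conj ((χ : G → ℂ) g) = (χ : G → ℂ) g) :
    ∃ θ : IrrCharacter N, (∀ n : N, conj ((θ : N → ℂ) n) = (θ : N → ℂ) n) ∧
      classInner (fun n : N => (χ : G → ℂ) n) (θ : N → ℂ) ≠ 0 := by
  classical
  obtain ⟨θ, hθ, hc⟩ := exists_constituent (isCharacter_restrict (isCharacter_of_irr χ.2) N)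
    (fun h => irr_ne_zero χ.2 (by simpa using congrFun h 1))
  have hself : (fun n => conj (θ n)) ∈ conjOrbit N θ := by
    obtain ⟨g, hg⟩ := exists_conj_of_constituents N χ.2 hθ (isIrrCharacter_conjChar hθ) hc (by
      intro h0
      apply hc
      have := congrArg conj h0
      rw [map_zero] at this
      rw [← this]
      simp only [classInner, map_mul, map_sum, map_inv₀, map_natCast, Complex.conj_conj]
      congr 1
      exact Finset.sum_congr rfl fun n _ => by rw [hr])
    exact (mem_conjOrbit N).2 ⟨g, hg⟩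
  have hcl : ∀ ψ ∈ conjOrbit N θ, (fun n => conj (ψ n)) ∈ conjOrbit N θ := by
    intro ψ hψ
    obtain ⟨a, rfl⟩ := (mem_conjOrbit N).1 hψ
    obtain ⟨b, hb⟩ := (mem_conjOrbit N).1 hself
    refine (mem_conjOrbit N).2 ⟨b * a, ?_⟩
    rw [conjNormFun_mul, hb]
    rfl
  let σ : Equiv.Perm {ψ // ψ ∈ conjOrbit N θ} :=
    Function.Involutive.toPerm (fun ψ => ⟨_, hcl ψ ψ.2⟩)
      fun ψ => Subtype.ext (funext fun n => Complex.conj_conj _)
  haveI := Fact.mk Nat.prime_two
  obtain ⟨ψ, hψ⟩ := Equiv.Perm.exists_fixed_point_of_prime (p := 2) (n := 1) (σ := σ) (by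
    rw [Fintype.card_coe, card_conjOrbit]
    exact fun h => (Nat.not_even_iff_odd.2 (hodd.of_dvd_nat
      (Subgroup.index_dvd_of_le (le_inertia N (isClassFunction_irr hθ))))) (even_iff_two_dvd.2 h)) (by
    rw [pow_one, pow_two]
    exact Equiv.ext fun ψ => Subtype.ext (funext fun n => Complex.conj_conj _))
  obtain ⟨g, hg⟩ := (mem_conjOrbit N).1 ψ.2
  refine ⟨⟨conjNormFun N g θ, isIrr_conjNormFun N g hθ⟩, fun n => ?_, ?_⟩
  · show conj (conjNormFun N g θ n) = conjNormFun N g θ n
    rw [hg]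
    exact congrFun (congrArg Subtype.val hψ) n
  · show classInner (fun n : N => (χ : G → ℂ) n) (conjNormFun N g θ) ≠ 0
    rwa [classInner_res_conjNormFun N g (isClassFunction_irr χ.2)]

end CfsgLib.RealPPrime
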