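import Cfsg.Agent.Lib.RealPPrime.Classes
import Cfsg.Agent.Lib.RealPPrime.OverReal
import Cfsg.Agent.Lib.Glauberman.NormalSylow

/-!
# The bijection of real characters with those of a Sylow normaliser
-/

namespace CfsgLib.RealPPrime

open Cfsg CfsgLib CfsgLib.CharTheory CfsgLib.Blocks CfsgLib.Glauberman CfsgLib.Glauberman.NormalSylow
open scoped ComplexConjugate Pointwise

set_option autoImplicit false
set_option linter.unusedSectionVars false
set_option linter.style.haveILetI false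

universe u

variable {G : Type u} [Group G] [Finite G] {p : ℕ} [Fact p.Prime]

theorem invS_iff_le_inertia (P K : Subgroup G) [K.Normal] (θ : K → ℂ) :
    InvS P K θ ↔ P ≤ inertia K θ :=
  ⟨fun h s hs => funext fun k => h s hs k ⟨s * k * s⁻¹, Subgroup.Normal.conj_mem inferInstance _ k.2 s⟩ rfl,
    fun h s hs k k' e => by
      have h1 := congrFun ((mem_inertia K).1 (h hs)) k
      rw [← h1]
      exact congrArg θ (Subtype.ext e)⟩

theorem conjNorm_eq_iff_rel {n : G} (K : Subgroup G) [K.Normal] (θ θ' : K → ℂ) :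
    conjNormFun K n θ = θ' ↔ Rel n⁻¹ K θ θ' := by
  constructor
  · rintro rfl k k' e
    exact congrArg θ (Subtype.ext (by show n * (k' : G) * n⁻¹ = k; rw [e]; group))
  · intro h
    funext k
    symm
    exact h ⟨n * k * n⁻¹, Subgroup.Normal.conj_mem inferInstance _ k.2 n⟩ k (by
      show (k : G) = n⁻¹ * (n * k * n⁻¹) * n⁻¹⁻¹
      group)

theorem rel_charDegree {s : G} {H : Subgroup G} {θ θ' : H → ℂ} (h : Rel s H θ θ') :
    charDegree θ' = charDegree θ := by
  show ⌊(θ' 1).re⌋₊ = ⌊(θ 1).re⌋₊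
  rw [h 1 1 (by simp)]

theorem invS_rel {P H : Subgroup G} {n : G} (hn : n ∈ Subgroup.normalizer (P : Set G))
    (hH : n ∈ Subgroup.normalizer (H : Set G)) {θ θ' : H → ℂ} (hθ : InvS P H θ) (hr : Rel n H θ θ') :
    InvS P H θ' := by
  intro s hs k k' hk
  have hyk : ∀ l : H, n⁻¹ * (l : G) * n ∈ H := fun l => by
    have := (Subgroup.mem_normalizer_iff.1 ((Subgroup.normalizer (H : Set G)).inv_mem hH) (l : G)).1 l.2
    simpa using this
  have hw : n⁻¹ * s * n ∈ P := by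
    have := (Subgroup.mem_normalizer_iff.1 ((Subgroup.normalizer (P : Set G)).inv_mem hn) s).1 hs
    simpa using this
  rw [hr ⟨_, hyk k'⟩ k' (by simp [mul_assoc]), hr ⟨_, hyk k⟩ k (by simp [mul_assoc])]
  refine hθ _ hw _ _ ?_
  show n⁻¹ * (k' : G) * n = (n⁻¹ * s * n) * (n⁻¹ * (k : G) * n) * (n⁻¹ * s * n)⁻¹
  rw [hk]; group

/-- The index of a subgroup containing a Sylow subgroup, computed in the normaliser. -/
theorem index_cast_normalizer (P : Sylow p G) (T : Subgroup G) (hPT : (P : Subgroup G) ≤ T) :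
    (T.index : ZMod p) = ((T.subgroupOf (Subgroup.normalizer ((P : Subgroup G) : Set G))).index : ZMod p) := by
  set N := Subgroup.normalizer ((P : Subgroup G) : Set G) with hN
  have hone : ∀ (H : Type u) [Group H] [Finite H] (S : Sylow p H),
      ((Subgroup.normalizer ((S : Subgroup H) : Set H)).index : ZMod p) = 1 := by
    intro H _ _ S
    have h := card_sylow_modEq_one p H
    rw [Sylow.card_eq_index_normalizer S] at h
    have h2 := (ZMod.natCast_eq_natCast_iff _ _ p).2 h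
    rwa [Nat.cast_one] at h2
  have h1 : (T ⊓ N).relIndex T * T.index = (T ⊓ N).relIndex N * N.index := by
    rw [Subgroup.relIndex_mul_index inf_le_left, Subgroup.relIndex_mul_index inf_le_right]
  rw [Subgroup.inf_relIndex_left, Subgroup.inf_relIndex_right] at h1
  have h2 : ((N.relIndex T : ℕ) : ZMod p) = 1 := by
    show (((N.subgroupOf T).index : ℕ) : ZMod p) = 1
    rw [hN, Subgroup.subgroupOf_normalizer_eq hPT]
    exact hone T (P.subtype hPT)
  have h3 := congrArg (Nat.cast : ℕ → ZMod p) h1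
  rw [Nat.cast_mul, Nat.cast_mul, h2, one_mul, hone G P, mul_one] at h3
  exact h3

/-- S4865. -/
theorem exists_bijection (hsol : Group.IsSolvable ↥(primeClosure p G)) (hreal : RealHyp p G) (P : Sylow p G) :
    ∃ f : {χ : IrrCharacter G // ∀ g : G, ((χ : G → ℂ) g).im = 0} →
        {ξ : IrrCharacter ↥(Subgroup.normalizer ((P : Subgroup G) : Set G)) //
          (∀ n, ((ξ : ↥(Subgroup.normalizer ((P : Subgroup G) : Set G)) → ℂ) n).im = 0) ∧
            ¬ p ∣ charDegree (ξ : ↥(Subgroup.normalizer ((P : Subgroup G) : Set G)) → ℂ)},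
      Function.Bijective f ∧ ∀ χ,
        ((charDegree ((f χ).1 : ↥(Subgroup.normalizer ((P : Subgroup G) : Set G)) → ℂ) : ZMod p) =
            (charDegree (χ.1 : G → ℂ) : ZMod p) ∨
          (charDegree ((f χ).1 : ↥(Subgroup.normalizer ((P : Subgroup G) : Set G)) → ℂ) : ZMod p) =
            -(charDegree (χ.1 : G → ℂ) : ZMod p)) := by
  classical
  have hp : p.Prime := Fact.out
  haveI := Fintype.ofFinite G
  set K := primeClosure 2 G with hK
  haveI := Fintype.ofFinite K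
  have hodd : Odd K.index := odd_index_two
  haveI := inf_normal (p := p) _ G le_rfl hsol hreal K (primeClosure_normal 2) le_rfl
    ⟨0, Subgroup.relIndex_self _⟩ P
  set Q := (P : Subgroup G) ⊓ K with hQ
  have hsyl : ¬ p ∣ Q.relIndex K := by
    rw [hQ, Subgroup.inf_relIndex_right]
    refine fun hd => P.not_dvd_index (hd.trans ?_)
    obtain ⟨e, he⟩ := Subgroup.relIndex_dvd_index_of_normal K (P : Subgroup G)
    refine ⟨e, Nat.eq_of_mul_eq_mul_left (Nat.card_pos (α := ↥(P : Subgroup G))) ?_⟩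
    have e1 : Nat.card ↥((P : Subgroup G) ⊓ K) * K.relIndex (P : Subgroup G) = Nat.card (P : Subgroup G) := by
      rw [← Subgroup.inf_relIndex_left (P : Subgroup G) K, ← Subgroup.relIndex_bot_left,
        ← Subgroup.relIndex_bot_left, Subgroup.relIndex_mul_relIndex _ _ _ bot_le inf_le_left]
    have e2 : Nat.card ↥((P : Subgroup G) ⊓ K) * (P : Subgroup G).relIndex K = Nat.card K := by
      rw [← Subgroup.inf_relIndex_right (P : Subgroup G) K, ← Subgroup.relIndex_bot_left,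
        ← Subgroup.relIndex_bot_left, Subgroup.relIndex_mul_relIndex _ _ _ bot_le inf_le_right]
    rw [Subgroup.card_mul_index, ← Subgroup.card_mul_index K, he, ← e1, ← e2]
    ring
  set N := Subgroup.normalizer ((P : Subgroup G) : Set G) with hN
  set C := N ⊓ K with hC
  haveI := Fintype.ofFinite C
  have hnK : ∀ g : G, g ∈ Subgroup.normalizer (K : Set G) := fun g => by
    rw [Subgroup.normalizer_eq_top (H := K)]; trivial
  have hnC : ∀ g ∈ N, g ∈ Subgroup.normalizer (C : Set G) := by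
    intro g hg
    rw [Subgroup.mem_normalizer_iff]
    intro k
    constructor
    · exact fun hk => Subgroup.mem_inf.2 ⟨mul_mem (mul_mem hg hk.1) (inv_mem hg),
        (Subgroup.mem_normalizer_iff.1 (hnK g) k).1 hk.2⟩
    · intro hk
      refine Subgroup.mem_inf.2 ⟨?_, (Subgroup.mem_normalizer_iff.1 (hnK g) k).2 hk.2⟩
      have := mul_mem (mul_mem (inv_mem hg) hk.1) hg
      simpa [mul_assoc] using this
  have hCiff : ∀ k : G, k ∈ C ↔ k ∈ K ∧ ∀ x ∈ (P : Subgroup G), x * k * x⁻¹ * k⁻¹ ∈ Q := by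
    intro k
    constructor
    · rintro ⟨hkN, hkK⟩
      refine ⟨hkK, fun x hx => Subgroup.mem_inf.2 ⟨?_,
        mul_mem ((Subgroup.mem_normalizer_iff.1 (hnK x) k).1 hkK) (inv_mem hkK)⟩⟩
      have := mul_mem hx ((Subgroup.mem_normalizer_iff.1 hkN x⁻¹).1 (inv_mem hx))
      simpa [mul_assoc] using this
    · rintro ⟨hkK, h⟩
      refine Subgroup.mem_inf.2 ⟨?_, hkK⟩
      rw [hN, Subgroup.mem_normalizer_iff_map_conj_eq]
      refine Subgroup.eq_of_le_of_card_ge ?_ (le_of_eq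
        (Subgroup.card_map_of_injective (K := (P : Subgroup G)) (MulEquiv.injective _)).symm)
      rintro _ ⟨a, ha, rfl⟩
      have h1 := mul_mem (inv_mem (Subgroup.mem_inf.1 (h a ha)).1) ha
      show k * a * k⁻¹ ∈ (P : Subgroup G)
      simpa [mul_assoc] using h1
  have hCK : C ≤ K := inf_le_right
  obtain ⟨ha, hb, hc⟩ := NormalSylow.main (p := p) _ (P : Subgroup G) K Q C rfl P.2 (fun x _ => hnK x)
    inf_le_right (fun k _ q hq => Subgroup.Normal.conj_mem inferInstance q hq k) (P.2.to_le inf_le_left)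
    hsyl hCiff hCK
  set ι := Subgroup.inclusion hCK with hι
  -- conjugation
  have hmulconj : ∀ (θ θ' : IrrCharacter K) (η η' : IrrCharacter C),
      (∀ k, (θ' : K → ℂ) k = conj ((θ : K → ℂ) k)) → (∀ k, (η' : C → ℂ) k = conj ((η : C → ℂ) k)) →
      mult ι θ' η' = mult ι θ η := by
    intro θ θ' η η' h1 h2
    apply mult_eq
    have := congrArg (starRingEnd ℂ) (mult_spec ι θ η)
    rw [map_natCast] at this
    rw [← this]
    simp only [classInner, h1, h2, map_mul, map_sum, map_inv₀, map_natCast]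
  choose Φ hΦ hΦsq hΦdvd using ha
  have hΦu : ∀ (θ : IrrCharacter K) (hθ : InvS (P : Subgroup G) K (θ : K → ℂ)) (η : IrrCharacter C), InvS (P : Subgroup G) C (η : C → ℂ) →
      ¬ p ∣ mult ι θ η → η = Φ θ hθ := fun θ hθ η hη h =>
    by_contra fun hne => h (hΦdvd θ hθ η hη hne)
  have hΦreal : ∀ (θ : IrrCharacter K) hθ, (∀ k : K, conj ((θ : K → ℂ) k) = (θ : K → ℂ) k) →
      ∀ c : C, conj ((Φ θ hθ : C → ℂ) c) = (Φ θ hθ : C → ℂ) c := by
    intro θ hθ hr c
    let η' : IrrCharacter C := ⟨fun c => conj ((Φ θ hθ : C → ℂ) c), isIrrCharacter_conjChar (Φ θ hθ).2⟩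
    have hη' : InvS (P : Subgroup G) C (η' : C → ℂ) := fun s hs k k' e =>
      congrArg (starRingEnd ℂ) (hΦ θ hθ s hs k k' e)
    have h1 : mult ι θ η' = mult ι θ (Φ θ hθ) :=
      hmulconj θ θ (Φ θ hθ) η' (fun k => (hr k).symm) fun _ => rfl
    have h2 := hΦu θ hθ η' hη' (h1 ▸ not_dvd_of_sq (hΦsq θ hθ))
    exact congrFun (congrArg Subtype.val h2) c
  have hΨ : ∀ ξ : IrrCharacter C, InvS (P : Subgroup G) C (ξ : C → ℂ) →
      (∀ c : C, conj ((ξ : C → ℂ) c) = (ξ : C → ℂ) c) →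
      ∃ (θ : IrrCharacter K) (hθ : InvS (P : Subgroup G) K (θ : K → ℂ)), (∀ k : K, conj ((θ : K → ℂ) k) = (θ : K → ℂ) k) ∧ Φ θ hθ = ξ := by
    intro ξ hξ hr
    obtain ⟨θ, hθ, hm⟩ := hb ξ hξ
    refine ⟨θ, hθ, fun k => ?_, (hΦu θ hθ ξ hξ hm).symm⟩
    let θ' : IrrCharacter K := ⟨fun k => conj ((θ : K → ℂ) k), isIrrCharacter_conjChar θ.2⟩
    have hθ' : InvS (P : Subgroup G) K (θ' : K → ℂ) := fun s hs k k' e =>
      congrArg (starRingEnd ℂ) (hθ s hs k k' e)
    have h1 : mult ι θ' ξ = mult ι θ ξ := hmulconj θ θ' ξ ξ (fun _ => rfl) fun c => (hr c).symm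
    have h2 := hc θ' θ ξ hθ' hθ hξ (h1.symm ▸ hm) hm
    exact congrFun (congrArg Subtype.val h2) k
  -- equivariance
  have hequiv : ∀ n ∈ N, ∀ (θ : IrrCharacter K) hθ (θ' : IrrCharacter K) hθ', Rel n K ((θ : IrrCharacter K) : K → ℂ) ((θ' : IrrCharacter K) : K → ℂ) →
      Rel n C (Φ θ hθ : C → ℂ) (Φ θ' hθ' : C → ℂ) := by
    intro n hn θ hθ θ' hθ' hr
    obtain ⟨η, hη⟩ := exists_rel (hnC n hn) (Φ θ hθ)
    have h1 : mult ι θ' η = mult ι θ (Φ θ hθ) := mult_rel hCK (hnC n hn) hr hη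
    have h2 := hΦu θ' hθ' η (invS_rel hn (hnC n hn) (hΦ θ hθ) hη) (h1 ▸ not_dvd_of_sq (hΦsq θ hθ))
    exact h2 ▸ hη
  have hequiv' : ∀ n ∈ N, ∀ (θ : IrrCharacter K) hθ (θ' : IrrCharacter K) hθ', Rel n C (Φ θ hθ : C → ℂ) (Φ θ' hθ' : C → ℂ) →
      Rel n K ((θ : IrrCharacter K) : K → ℂ) ((θ' : IrrCharacter K) : K → ℂ) := by
    intro n hn θ hθ θ' hθ' hr
    obtain ⟨η, hη⟩ := exists_rel (hnK n) θ
    have h1 : mult ι η (Φ θ' hθ') = mult ι θ (Φ θ hθ) := mult_rel hCK (hnC n hn) hη hr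
    have h2 := hc η θ' (Φ θ' hθ') (invS_rel hn (hnK n) hθ hη) hθ' (hΦ θ' hθ')
      (h1 ▸ not_dvd_of_sq (hΦsq θ hθ)) (not_dvd_of_sq (hΦsq θ' hθ'))
    exact h2 ▸ hη
  have hΦdeg : ∀ (θ : IrrCharacter K) hθ, (charDegree ((θ : IrrCharacter K) : K → ℂ) : ZMod p) =
      (mult ι θ (Φ θ hθ) : ZMod p) * (charDegree (Φ θ hθ : C → ℂ) : ZMod p) := by
    intro θ hθ
    have h1 := apply_eq_sum_mult ι θ 1
    rw [map_one, ← irr_charDegree_cast, Finset.sum_congr rfl fun η _ => by
      rw [← irr_charDegree_cast η]] at h1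
    have h2 : charDegree (θ : K → ℂ) = ∑ η : IrrCharacter C, mult ι θ η * charDegree (η : C → ℂ) := by
      exact_mod_cast h1
    rw [h2, Nat.cast_sum, sum_inv (P : Subgroup G) C P.2 (fun x hx => hnC x (Subgroup.le_normalizer hx)) _
      (fun s hs η η' hr => by
        rw [mult_rel hCK (hnC s (Subgroup.le_normalizer hs)) (hθ s hs) hr, rel_charDegree hr]),
      Finset.sum_eq_single (Φ θ hθ)]
    · rw [Nat.cast_mul]
    · intro η hη hne
      rw [Nat.cast_mul, (ZMod.natCast_eq_zero_iff _ _).2 (hΦdvd θ hθ η (Finset.mem_filter.1 hη).2 hne),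
        zero_mul]
    · exact fun h => absurd (Finset.mem_filter.2 ⟨Finset.mem_univ (Φ θ hθ), hΦ θ hθ⟩) h
  -- the normal subgroup of `N`
  set C' := K.subgroupOf N with hC'
  haveI : C'.Normal := Subgroup.normal_subgroupOf
  haveI := Fintype.ofFinite C'
  haveI := Fintype.ofFinite N
  have hC'odd : Odd C'.index := hodd.of_dvd_nat (Subgroup.relIndex_dvd_index_of_normal K N)
  let eC : C' ≃* C :=
    { toFun := fun c => ⟨((c : N) : G), Subgroup.mem_inf.2 ⟨(c : N).2, c.2⟩⟩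
      invFun := fun c => ⟨⟨(c : G), (Subgroup.mem_inf.1 c.2).1⟩, (Subgroup.mem_inf.1 c.2).2⟩
      left_inv := fun c => rfl
      right_inv := fun c => rfl
      map_mul' := fun _ _ => rfl }
  let up : IrrCharacter C → IrrCharacter C' := fun ξ => ⟨fun c => (ξ : C → ℂ) (eC c),
    isIrrCharacter_comp_surjective ξ.2 eC.toMonoidHom eC.surjective⟩
  have hup_inj : Function.Injective up := fun a b e => Subtype.ext (funext fun c => by
    have := congrFun (congrArg Subtype.val e) (eC.symm c)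
    simpa [up] using this)
  have hup_rel : ∀ (n : N) (ξ ξ' : IrrCharacter C),
      conjNormFun C' n (up ξ : C' → ℂ) = (up ξ' : C' → ℂ) ↔ Rel (n : G)⁻¹ C (ξ : C → ℂ) (ξ' : C → ℂ) := by
    intro n ξ ξ'
    constructor
    · intro h k k' e
      have h1 := congrFun h (eC.symm k')
      show (ξ' : C → ℂ) k' = (ξ : C → ℂ) k
      rw [show (ξ' : C → ℂ) k' = (up ξ' : C' → ℂ) (eC.symm k') by simp [up], ← h1]
      refine congrArg (ξ : C → ℂ) (Subtype.ext ?_)
      show (n : G) * (k' : G) * (n : G)⁻¹ = k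
      rw [e]; group
    · intro h
      funext c
      symm
      refine h (eC ⟨n * (c : N) * n⁻¹, Subgroup.Normal.conj_mem inferInstance _ c.2 n⟩) (eC c) ?_
      show ((c : N) : G) = (n : G)⁻¹ * ((n : G) * ((c : N) : G) * (n : G)⁻¹) * (n : G)⁻¹⁻¹
      group
  set P' := (P : Subgroup G).subgroupOf N with hP'
  have hP'idx : ¬ p ∣ P'.index := fun hd =>
    P.not_dvd_index (hd.trans (Dvd.intro _ (Subgroup.relIndex_mul_index Subgroup.le_normalizer)))
  have hp'of : ∀ ξ : IrrCharacter C, InvS (P : Subgroup G) C (ξ : C → ℂ) →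
      ¬ p ∣ (inertia C' (up ξ : C' → ℂ)).index := by
    intro ξ hξ hd
    refine hP'idx (hd.trans (Subgroup.index_dvd_of_le fun s hs => ?_))
    rw [mem_inertia, hup_rel]
    exact hξ _ (inv_mem hs)
  have hinvof : ∀ ξ : IrrCharacter C, ¬ p ∣ (inertia C' (up ξ : C' → ℂ)).index →
      InvS (P : Subgroup G) C (ξ : C → ℂ) := by
    intro ξ hT s hs
    set T := inertia C' (up ξ : C' → ℂ) with hTdef
    obtain ⟨S₀⟩ : Nonempty (Sylow p T) := inferInstance
    let S : Sylow p N := Sylow.ofCard ((S₀ : Subgroup T).map T.subtype) (by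
      rw [Subgroup.card_map_of_injective T.subtype_injective, S₀.card_eq_multiplicity,
        ← T.card_mul_index, Nat.factorization_mul Nat.card_pos.ne' Subgroup.index_ne_zero_of_finite,
        Finsupp.add_apply, Nat.factorization_eq_zero_of_not_dvd hT, add_zero])
    haveI : P'.Normal := Subgroup.normal_in_normalizer
    have h1 : P' ≤ T := ((P.2.of_equiv (Subgroup.subgroupOfEquivOfLe Subgroup.le_normalizer).symm).le_sylow_of_normal S).trans
      (Subgroup.map_subtype_le _)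
    have h2 := h1 (show (⟨s⁻¹, Subgroup.le_normalizer (inv_mem hs)⟩ : N) ∈ P' from inv_mem hs)
    rw [mem_inertia, hup_rel] at h2
    rw [show (((⟨s⁻¹, Subgroup.le_normalizer (inv_mem hs)⟩ : N) : G))⁻¹ = s from inv_inv s] at h2
    exact h2
  -- the constituent of a real character
  have hconst : ∀ χ : {χ : IrrCharacter G // ∀ g : G, ((χ : G → ℂ) g).im = 0},
      ∃ θ : IrrCharacter K, InvS (P : Subgroup G) K (θ : K → ℂ) ∧
        (∀ k : K, conj ((θ : K → ℂ) k) = (θ : K → ℂ) k) ∧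
        classInner (fun k : K => (χ.1 : G → ℂ) k) (θ : K → ℂ) ≠ 0 := by
    intro χ
    obtain ⟨θ, hθr, hθc⟩ := exists_real_constituent K hodd χ.1 fun g => Complex.conj_eq_iff_im.2 (χ.2 g)
    have hT := real_fixed_by_sylow hreal K hodd θ fun k => Complex.conj_eq_iff_im.1 (hθr k)
    set T := inertia K (θ : K → ℂ) with hTdef
    obtain ⟨S₀⟩ : Nonempty (Sylow p T) := inferInstance
    let S : Sylow p G := Sylow.ofCard ((S₀ : Subgroup T).map T.subtype) (by
      rw [Subgroup.card_map_of_injective T.subtype_injective, S₀.card_eq_multiplicity,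
        ← T.card_mul_index, Nat.factorization_mul Nat.card_pos.ne' Subgroup.index_ne_zero_of_finite,
        Finsupp.add_apply, Nat.factorization_eq_zero_of_not_dvd hT, add_zero])
    obtain ⟨g, hg⟩ := MulAction.exists_smul_eq G P S
    refine ⟨⟨conjNormFun K g (θ : K → ℂ), isIrr_conjNormFun K g θ.2⟩,
      (invS_iff_le_inertia _ K _).2 fun s hs => ?_, fun k => hθr _, by
        rwa [classInner_res_conjNormFun K g (isClassFunction_irr χ.1.2)]⟩
    have h1 : g * s * g⁻¹ ∈ T := by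
      have h2 : g * s * g⁻¹ ∈ MulAut.conj g • (P : Subgroup G) := by
        rw [mem_conj_smul_iff]; simpa [mul_assoc] using hs
      rw [show MulAut.conj g • (P : Subgroup G) = (g • P : Sylow p G) from rfl, hg] at h2
      exact Subgroup.map_subtype_le (S₀ : Subgroup T) h2
    rw [mem_inertia]
    show conjNormFun K s (conjNormFun K g (θ : K → ℂ)) = conjNormFun K g (θ : K → ℂ)
    rw [← conjNormFun_mul, show g * s = g * s * g⁻¹ * g by group, conjNormFun_mul, (mem_inertia K).1 h1]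
  choose θ hθi hθr hθc using hconst
  -- two fixed constituents of one character are conjugate in the normaliser
  have hconjN : ∀ (χ : IrrCharacter G) (a b : IrrCharacter K), InvS (P : Subgroup G) K (a : K → ℂ) →
      InvS (P : Subgroup G) K (b : K → ℂ) → classInner (fun k : K => (χ : G → ℂ) k) (a : K → ℂ) ≠ 0 →
      classInner (fun k : K => (χ : G → ℂ) k) (b : K → ℂ) ≠ 0 →
      ∃ n ∈ N, Rel n K (a : K → ℂ) (b : K → ℂ) := by
    intro χ a b hai hbi hac hbc
    obtain ⟨g, hg⟩ := exists_conj_of_constituents K χ.2 a.2 b.2 hac hbc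
    set T := inertia K (b : K → ℂ) with hTdef
    have hPT : (P : Subgroup G) ≤ T := (invS_iff_le_inertia _ K _).1 hbi
    have hgPT : ((g⁻¹ • P : Sylow p G) : Subgroup G) ≤ T := by
      intro y hy
      rw [show ((g⁻¹ • P : Sylow p G) : Subgroup G) = MulAut.conj g⁻¹ • (P : Subgroup G) from rfl,
        mem_conj_smul_iff] at hy
      have h1 := (mem_inertia K).1 ((invS_iff_le_inertia _ K _).1 hai hy)
      rw [hTdef, mem_inertia, ← hg, ← conjNormFun_mul]
      rw [show g * y = (g⁻¹⁻¹ * y * g⁻¹) * g by group, conjNormFun_mul]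
      exact congrArg (conjNormFun K g) h1
    obtain ⟨t, ht⟩ := MulAction.exists_smul_eq T ((g⁻¹ • P).subtype hgPT) (P.subtype hPT)
    have h1 : ((t : G) • (g⁻¹ • P) : Sylow p G) = P := by
      refine Sylow.subtype_injective (hP := ?_) (hQ := hPT) ?_
      · intro y hy
        rw [show (((t : G) • (g⁻¹ • P) : Sylow p G) : Subgroup G) =
          MulAut.conj (t : G) • ((g⁻¹ • P : Sylow p G) : Subgroup G) from rfl, mem_conj_smul_iff] at hy
        have h2 := mul_mem (mul_mem t.2 (hgPT hy)) (inv_mem t.2)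
        simpa [mul_assoc] using h2
      · rw [← ht, Sylow.smul_subtype]
        rfl
    rw [← mul_smul] at h1
    refine ⟨(t : G) * g⁻¹, Sylow.smul_eq_iff_mem_normalizer.1 h1, ?_⟩
    have h2 : conjNormFun K (g * (t : G)⁻¹) (a : K → ℂ) = (b : K → ℂ) := by
      rw [conjNormFun_mul, hg]
      exact (mem_inertia K).1 (inv_mem t.2)
    rw [conjNorm_eq_iff_rel, mul_inv_rev, inv_inv] at h2
    exact h2
  choose Ω hΩr hΩ1 hΩu using fun ξ : {ξ : IrrCharacter C // ∀ c : C, conj ((ξ : C → ℂ) c) = (ξ : C → ℂ) c} =>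
    exists_unique_real C' hC'odd (up ξ.1) fun c => ξ.2 (eC c)
  let F : {χ : IrrCharacter G // ∀ g : G, ((χ : G → ℂ) g).im = 0} → IrrCharacter N := fun χ =>
    Ω ⟨Φ (θ χ) (hθi χ), hΦreal _ _ (hθr χ)⟩
  have hne1 : ∀ ξ, classInner (fun c : C' => (Ω ξ : N → ℂ) c) (up ξ.1 : C' → ℂ) ≠ 0 := fun ξ => by
    rw [hΩ1]; exact one_ne_zero
  have hdegΩ : ∀ ξ, charDegree (Ω ξ : N → ℂ) =
      (inertia C' (up ξ.1 : C' → ℂ)).index * charDegree (ξ.1 : C → ℂ) := by
    intro ξ
    have h1 := clifford_degree C' (Ω ξ).2 (up ξ.1).2 (hne1 ξ)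
    rw [hΩ1, one_mul, ← irr_charDegree_cast, ← irr_charDegree_cast] at h1
    rw [show charDegree (ξ.1 : C → ℂ) = charDegree (up ξ.1 : C' → ℂ) from
      congrArg (fun z : ℂ => ⌊z.re⌋₊) (congrArg (ξ.1 : C → ℂ) (map_one eC).symm)]
    exact_mod_cast h1
  have hdegχ : ∀ χ : {χ : IrrCharacter G // ∀ g : G, ((χ : G → ℂ) g).im = 0},
      charDegree (χ.1 : G → ℂ) = (inertia K (θ χ : K → ℂ)).index * charDegree (θ χ : K → ℂ) := by
    intro χ
    obtain ⟨X, hXr, hX1, hXu⟩ := exists_unique_real K hodd (θ χ) (hθr χ)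
    obtain rfl := hXu χ.1 (fun g => Complex.conj_eq_iff_im.2 (χ.2 g)) (hθc χ)
    have h1 := clifford_degree K χ.1.2 (θ χ).2 (hθc χ)
    rw [hX1, one_mul, ← irr_charDegree_cast, ← irr_charDegree_cast] at h1
    exact_mod_cast h1
  have hTN : ∀ χ, inertia C' (up (Φ (θ χ) (hθi χ)) : C' → ℂ) = (inertia K (θ χ : K → ℂ)).subgroupOf N := by
    intro χ
    ext n
    rw [Subgroup.mem_subgroupOf, mem_inertia, mem_inertia, hup_rel, conjNorm_eq_iff_rel]
    exact ⟨hequiv' _ (inv_mem n.2) _ (hθi χ) _ (hθi χ), hequiv _ (inv_mem n.2) _ (hθi χ) _ (hθi χ)⟩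
  have hFdeg : ∀ χ, (charDegree (F χ : N → ℂ) : ZMod p) * (mult ι (θ χ) (Φ (θ χ) (hθi χ)) : ZMod p) =
      (charDegree (χ.1 : G → ℂ) : ZMod p) := by
    intro χ
    rw [hdegΩ, hdegχ, Nat.cast_mul, Nat.cast_mul,
      index_cast_normalizer P _ ((invS_iff_le_inertia _ K _).1 (hθi χ)), hΦdeg _ (hθi χ), hTN]
    ring
  have hFp : ∀ χ, ¬ p ∣ charDegree (F χ : N → ℂ) := by
    intro χ hd
    refine hreal χ.1 χ.2 ((ZMod.natCast_eq_zero_iff _ _).1 ?_)
    rw [← hFdeg, (ZMod.natCast_eq_zero_iff _ _).2 hd, zero_mul]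
  refine ⟨fun χ => ⟨F χ, fun n => Complex.conj_eq_iff_im.1 (hΩr _ n), hFp χ⟩, ⟨?_, ?_⟩, fun χ => ?_⟩
  · intro χ₁ χ₂ e
    have e' : F χ₁ = F χ₂ := congrArg Subtype.val e
    obtain ⟨n, hn⟩ := exists_conj_of_constituents C' (F χ₁).2 (up (Φ (θ χ₁) (hθi χ₁))).2
      (up (Φ (θ χ₂) (hθi χ₂))).2 (hne1 _) (e' ▸ hne1 _)
    rw [hup_rel] at hn
    have h2 := hequiv' _ (inv_mem n.2) _ (hθi χ₁) _ (hθi χ₂) hn
    rw [← conjNorm_eq_iff_rel] at h2
    obtain ⟨X, hXr, hX1, hXu⟩ := exists_unique_real K hodd (θ χ₂) (hθr χ₂)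
    have h3 : classInner (fun k : K => (χ₁.1 : G → ℂ) k) (θ χ₂ : K → ℂ) ≠ 0 := by
      rw [← h2, classInner_res_conjNormFun K _ (isClassFunction_irr χ₁.1.2)]
      exact hθc χ₁
    exact Subtype.ext ((hXu χ₁.1 (fun g => Complex.conj_eq_iff_im.2 (χ₁.2 g)) h3).trans
      (hXu χ₂.1 (fun g => Complex.conj_eq_iff_im.2 (χ₂.2 g)) (hθc χ₂)).symm)
  · rintro ⟨η, hηr, hηp⟩
    obtain ⟨ζ, hζr, hζc⟩ := exists_real_constituent C' hC'odd η fun n => Complex.conj_eq_iff_im.2 (hηr n)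
    let ξ : IrrCharacter C := ⟨fun c => (ζ : C' → ℂ) (eC.symm c),
      isIrrCharacter_comp_surjective ζ.2 eC.symm.toMonoidHom eC.symm.surjective⟩
    have hupξ : up ξ = ζ := Subtype.ext (funext fun c => by simp [up, ξ])
    have hξi : InvS (P : Subgroup G) C (ξ : C → ℂ) := by
      refine hinvof ξ fun hd => hηp ?_
      rw [hupξ] at hd
      obtain ⟨e, he⟩ := classInner_char_nat (isCharacter_restrict (isCharacter_of_irr η.2) C')
        (isCharacter_of_irr ζ.2)
      have h1 := clifford_degree C' η.2 ζ.2 hζc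
      rw [he, ← irr_charDegree_cast, ← irr_charDegree_cast] at h1
      have h2 : charDegree (η : N → ℂ) = e * (inertia C' (ζ : C' → ℂ)).index * charDegree (ζ : C' → ℂ) := by
        exact_mod_cast h1
      rw [h2]
      exact dvd_mul_of_dvd_left (dvd_mul_of_dvd_right hd _) _
    have hξr : ∀ c : C, conj ((ξ : C → ℂ) c) = (ξ : C → ℂ) c := fun c => hζr _
    obtain ⟨a, hai, har, hae⟩ := hΨ ξ hξi hξr
    obtain ⟨X, hXr, hX1, hXu⟩ := exists_unique_real K hodd a har
    let χ : {χ : IrrCharacter G // ∀ g : G, ((χ : G → ℂ) g).im = 0} :=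
      ⟨X, fun g => Complex.conj_eq_iff_im.1 (hXr g)⟩
    refine ⟨χ, Subtype.ext ?_⟩
    show F χ = η
    obtain ⟨n, hn, hrel⟩ := hconjN X (θ χ) a (hθi χ) hai (hθc χ) (by rw [hX1]; exact one_ne_zero)
    have h2 := hequiv n hn _ (hθi χ) _ hai hrel
    rw [hae] at h2
    have h3 : conjNormFun C' (⟨n, hn⟩⁻¹ : N) (up (Φ (θ χ) (hθi χ)) : C' → ℂ) = (ζ : C' → ℂ) := by
      rw [← hupξ, hup_rel]
      simpa using h2
    refine (hΩu _ η (fun m => Complex.conj_eq_iff_im.2 (hηr m)) ?_).symm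
    rw [← classInner_res_conjNormFun C' (⟨n, hn⟩⁻¹ : N) (isClassFunction_irr η.2), h3]
    exact hζc
  · show (charDegree (F χ : N → ℂ) : ZMod p) = _ ∨ (charDegree (F χ : N → ℂ) : ZMod p) = _
    rw [← hFdeg χ]
    rcases sq_eq_one_iff.1 (hΦsq (θ χ) (hθi χ)) with h | h <;> rw [hι, h]
    · left; rw [mul_one]
    · right; rw [mul_neg_one, neg_neg]

end CfsgLib.RealPPrime
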