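import Cfsg.Agent.Lib.RealPPrime.Normal
import Cfsg.Agent.Lib.Glauberman.Real
import Cfsg.Agent.S4866

/-!
# Real classes of a group whose real characters have `p'`-degree
-/

namespace CfsgLib.RealPPrime

open Cfsg CfsgLib CfsgLib.CharTheory CfsgLib.Blocks CfsgLib.Glauberman
open scoped ComplexConjugate Pointwise

set_option autoImplicit false
set_option linter.unusedSectionVars false
set_option linter.style.haveILetI false

universe u

variable {G : Type u} [Group G] [Finite G] {p : ℕ} [Fact p.Prime]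

/-- A real character of a normal subgroup of odd index is fixed by some Sylow `p`-subgroup. -/
theorem real_fixed_by_sylow (hreal : RealHyp p G) (K : Subgroup G) [K.Normal] [Fintype K]
    (hodd : Odd K.index) (θ : IrrCharacter K) (hθ : ∀ k : K, ((θ : K → ℂ) k).im = 0) :
    ¬ p ∣ (inertia K (θ : K → ℂ)).index := by
  classical
  haveI := Fintype.ofFinite G
  set F := indFun K (θ : K → ℂ) with hF
  have hFchar : IsCharacter G F := isCharacter_indFun K (isCharacter_of_irr θ.2)
  choose c hc using fun χ : IrrCharacter G => classInner_char_nat hFchar (isCharacter_of_irr χ.2)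
  obtain ⟨d, hd0, hd⟩ := irr_degree_pos θ.2
  have hFreal : ∀ g : G, conj (F g) = F g := by
    intro g
    simp only [hF, indFun, map_mul, map_inv₀, map_natCast, map_sum]
    refine congrArg _ (Finset.sum_congr rfl fun x _ => ?_)
    by_cases hy : x⁻¹ * g * x ∈ K
    · rw [extendByZero_of_mem K _ hy, Complex.conj_eq_iff_im.2 (hθ _)]
    · rw [extendByZero_of_not_mem K _ hy, map_zero]
  have hover : ∀ χ : IrrCharacter G, c χ ≠ 0 →
      classInner (fun k : K => (χ : G → ℂ) k) (θ : K → ℂ) = (c χ : ℂ) := by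
    intro χ _
    have h1 := hc χ
    rw [hF, frobenius_reciprocity _ _ (isClassFunction_irr χ.2), ← classInner_comm] at h1
    rw [← Complex.conj_natCast, ← h1, Complex.conj_conj]
  have hdeg : ∀ χ : IrrCharacter G, c χ ≠ 0 →
      charDegree (χ : G → ℂ) = c χ * (inertia K (θ : K → ℂ)).index * d := by
    intro χ hcχ
    have h1 := clifford_degree K χ.2 θ.2 (by rw [hover χ hcχ]; exact_mod_cast hcχ)
    rw [hover χ hcχ, hd, ← irr_charDegree_cast] at h1
    exact_mod_cast h1
  have hsum : K.index = ∑ χ : IrrCharacter G, c χ * (charDegree (χ : G → ℂ) / d) := by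
    apply Nat.eq_of_mul_eq_mul_right hd0
    rw [Finset.sum_mul]
    have h1 := congrFun (eq_sum_irr (indFun_isClassFunction K (θ : K → ℂ))) 1
    simp only [Finset.sum_apply, Pi.smul_apply, smul_eq_mul, ← hF, hc, ← irr_charDegree_cast,
      hF ▸ indFun_apply_one K (θ : K → ℂ), hd] at h1
    have h2 : K.index * d = ∑ χ : IrrCharacter G, c χ * charDegree (χ : G → ℂ) := by
      exact_mod_cast h1
    rw [h2]
    refine Finset.sum_congr rfl fun χ _ => ?_
    rcases eq_or_ne (c χ) 0 with h0 | h0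
    · rw [h0, zero_mul, zero_mul, zero_mul]
    · rw [mul_assoc, Nat.div_mul_cancel ⟨c χ * (inertia K (θ : K → ℂ)).index, by rw [hdeg χ h0]; ring⟩]
  obtain ⟨χ, hχr, hχw⟩ := exists_real_of_odd_sum (fun χ => c χ * (charDegree (χ : G → ℂ) / d))
    (fun χ χ' e => by
      have hd' : charDegree (χ' : G → ℂ) = charDegree (χ : G → ℂ) := by
        show ⌊((χ' : G → ℂ) 1).re⌋₊ = ⌊((χ : G → ℂ) 1).re⌋₊
        rw [e 1, Complex.conj_re]
      have hc' : (c χ' : ℂ) = (c χ : ℂ) := by
        rw [← hc, ← Complex.conj_natCast, ← hc]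
        simp only [classInner, map_mul, map_sum, map_inv₀, map_natCast, Complex.conj_conj, e]
        congr 1
        exact Finset.sum_congr rfl fun g _ => by rw [hFreal g]
      rw [hd', Nat.cast_injective hc']) (hsum ▸ hodd)
  intro hdiv
  apply hreal χ hχr
  rw [hdeg χ (left_ne_zero_of_mul hχw)]
  exact dvd_mul_of_dvd_left (dvd_mul_of_dvd_right hdiv _) _

/-- In the `p'` case every real element of `K` is conjugate into the centraliser of a Sylow subgroup. -/
theorem real_meets (hreal : RealHyp p G) (K : Subgroup G) [K.Normal] (hodd : Odd K.index)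
    (hK : ¬ p ∣ Nat.card K) (P : Sylow p G) (x : K) (hx : IsConj x x⁻¹) :
    ∃ g : G, ∀ y ∈ (P : Subgroup G), y * (g * (x : G) * g⁻¹) = g * (x : G) * g⁻¹ * y := by
  classical
  haveI := Fintype.ofFinite K
  have hp : p.Prime := Fact.out
  set N := Subgroup.normalizer ((P : Subgroup G) : Set G) with hN
  set C := K.subgroupOf N with hC
  haveI : C.Normal := Subgroup.normal_subgroupOf
  haveI := Fintype.ofFinite C
  have hCodd : Odd C.index := hodd.of_dvd_nat (Subgroup.relIndex_dvd_index_of_normal K N)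
  have hcent : ∀ c : C, ∀ y ∈ (P : Subgroup G), y * ((c : N) : G) = ((c : N) : G) * y := by
    intro c y hy
    have h1 : y * ((c : N) : G) * y⁻¹ * ((c : N) : G)⁻¹ ∈ K :=
      mul_mem ((inferInstance : K.Normal).conj_mem _ c.2 y) (inv_mem c.2)
    have h2 : y * ((c : N) : G) * y⁻¹ * ((c : N) : G)⁻¹ ∈ (P : Subgroup G) := by
      have := mul_mem hy ((Subgroup.mem_normalizer_iff.1 (c : N).2 y⁻¹).1 (inv_mem hy))
      simpa [mul_assoc] using this
    obtain ⟨k, hk⟩ := IsPGroup.iff_card.1 P.2
    have h3 : y * ((c : N) : G) * y⁻¹ * ((c : N) : G)⁻¹ = 1 := orderOf_eq_one_iff.1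
      (Nat.eq_one_of_dvd_coprimes ((hp.coprime_iff_not_dvd.2 hK).pow_left k)
        (hk ▸ Subgroup.orderOf_dvd_natCard _ h2) (Subgroup.orderOf_dvd_natCard _ h1))
    rw [mul_inv_eq_one, mul_inv_eq_iff_eq_mul] at h3
    exact h3
  have hPK : (P : Subgroup G) ≤ Subgroup.normalizer (K : Set G) := fun y _ => by
    rw [Subgroup.normalizer_eq_top (H := K)]; trivial
  let φ : (P : Subgroup G) →* MulAut K := (Subgroup.normalizerMonoidHom K).comp (Subgroup.inclusion hPK)
  have hφ : ∀ (s : (P : Subgroup G)) (k : K), ((φ s k : K) : G) = (s : G) * k * (s : G)⁻¹ := fun s k => rfl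
  let ι : C →* K :=
    { toFun := fun c => ⟨((c : N) : G), c.2⟩
      map_one' := rfl
      map_mul' := fun _ _ => rfl }
  obtain ⟨M, hM⟩ := CfsgLib.ZStar.exists_isPModular hp
  have hS : Setup p M φ ι :=
    { hM := hM, hP := P.2, hG := hK
      inj := fun a b e => Subtype.ext (Subtype.ext (congrArg (fun z : K => (z : G)) e))
      fix := fun k => by
        constructor
        · rintro ⟨c, rfl⟩ s
          exact Subtype.ext (by rw [hφ]; show (s : G) * ((c : N) : G) * (s : G)⁻¹ = _; rw [hcent c s s.2, mul_inv_cancel_right]; rfl)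
        · intro h
          have hk : (k : G) ∈ N := by
            rw [hN, Subgroup.mem_normalizer_iff]
            intro y
            have hfix : ∀ y ∈ (P : Subgroup G), (k : G) * y * (k : G)⁻¹ = y := fun y hy => by
              have h1 := congrArg (fun z : K => (z : G)) (h ⟨y, hy⟩)
              rw [hφ] at h1
              have h2 : y * (k : G) = k * y := mul_inv_eq_iff_eq_mul.1 h1
              rw [← h2, mul_inv_cancel_right]
            refine ⟨fun hy => (hfix y hy).symm ▸ hy, fun hy => ?_⟩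
            have e := hfix _ hy
            have : (k : G) * y * (k : G)⁻¹ = y := by
              have e2 := congrArg (fun z => (k : G)⁻¹ * z * k) e
              simpa [mul_assoc] using e2
            rwa [this] at hy
          exact ⟨⟨⟨k, hk⟩, k.2⟩, rfl⟩ }
  haveI := res_isDomain hM
  -- the correspondence
  have hover : ∀ β : IrrCharacter C, ∃! θ : IrrCharacter K, Inv φ (θ : K → ℂ) ∧
      (mult ι θ β : AlgInt ⧸ M) ≠ 0 := fun β => by
    obtain ⟨θ, hθ, h1, hu⟩ := hS.exists_unique_over β
    refine ⟨θ, ⟨hθ, left_ne_zero_of_mul (h1 ▸ one_ne_zero)⟩, fun θ' hθ' => ?_⟩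
    by_contra hne
    exact hθ'.2 (hu θ' hθ'.1 hne)
  choose f hf hfu using fun β => hover β
  let cj : IrrCharacter K → IrrCharacter K := fun θ =>
    ⟨fun k => conj ((θ : K → ℂ) k), isIrrCharacter_conjChar θ.2⟩
  have hfreal : ∀ β : IrrCharacter C, (∀ c : C, ((β : C → ℂ) c).im = 0) →
      ∀ k : K, ((f β : K → ℂ) k).im = 0 := by
    intro β hβ k
    have hm : mult ι (cj (f β)) β = mult ι (f β) β := by
      apply mult_eq
      have h1 := congrArg (starRingEnd ℂ) (mult_spec ι (f β) β)
      rw [map_natCast] at h1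
      rw [← h1]
      simp only [classInner, cj, map_mul, map_sum, map_inv₀, map_natCast, Complex.conj_conj]
      congr 1
      exact Finset.sum_congr rfl fun c _ => by rw [Complex.conj_eq_iff_im.2 (hβ c)]
    have h2 := hfu β (cj (f β)) ⟨fun s g => congrArg (starRingEnd ℂ) ((hf β).1 s g), by rw [hm]; exact (hf β).2⟩
    exact Complex.conj_eq_iff_im.1 (congrFun (congrArg Subtype.val h2) k)
  let A := {θ : IrrCharacter K // ∀ k : K, ((θ : K → ℂ) k).im = 0}
  let rA : A → A → Prop := fun θ η => ∃ g : G, ∀ k k' : K, (k' : G) = g * (k : G) * g⁻¹ →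
    (η.1 : K → ℂ) k' = (θ.1 : K → ℂ) k
  let A' := {θ : IrrCharacter C // ∀ k : C, ((θ : C → ℂ) k).im = 0}
  let rA' : A' → A' → Prop := fun θ η => ∃ g : N, ∀ k k' : C, (k' : N) = g * (k : N) * g⁻¹ →
    (η.1 : C → ℂ) k' = (θ.1 : C → ℂ) k
  let Φ : A' → A := fun β => ⟨f β.1, hfreal β.1 β.2⟩
  have hΦ : ∀ a b, rA' a b → rA (Φ a) (Φ b) := by
    rintro a b ⟨g, hg⟩
    refine ⟨(g : G), fun k k' e => ?_⟩
    let θ' : IrrCharacter K := ⟨conjNormFun K (g : G) (f b.1 : K → ℂ), isIrr_conjNormFun K _ (f b.1).2⟩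
    have hi : Inv φ (θ' : K → ℂ) := by
      intro s k
      show (f b.1 : K → ℂ) _ = (f b.1 : K → ℂ) _
      set s' : (P : Subgroup G) := ⟨g * (s : G) * (g : G)⁻¹, (Subgroup.mem_normalizer_iff.1 g.2 _).1 s.2⟩
      rw [← (hf b.1).1 s' ⟨g * (k : G) * (g : G)⁻¹, Subgroup.Normal.conj_mem inferInstance _ k.2 _⟩]
      refine congrArg (f b.1 : K → ℂ) (Subtype.ext ?_)
      simp only [hφ, s']
      group
    have hm : mult ι θ' a.1 = mult ι (f b.1) b.1 := by
      apply mult_eq
      rw [← mult_spec ι (f b.1) b.1]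
      simp only [classInner]
      congr 1
      let e : C ≃ C := (MulAut.conjNormal g : C ≃* C).toEquiv
      refine Fintype.sum_equiv e _ _ fun c => ?_
      have h1 : ((e c : C) : N) = g * (c : N) * g⁻¹ := MulAut.conjNormal_apply g c
      rw [hg c (e c) h1]
      congr 1
    have h2 := hfu a.1 θ' ⟨hi, by rw [hm]; exact (hf b.1).2⟩
    show (f b.1 : K → ℂ) k' = (f a.1 : K → ℂ) k
    rw [← h2]
    exact congrArg (f b.1 : K → ℂ) (Subtype.ext e)
  have hsurj : Function.Surjective (Quot.map Φ hΦ) := by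
    intro q
    induction q using Quot.ind with
    | _ θ =>
      have hT := real_fixed_by_sylow hreal K hodd θ.1 θ.2
      set T := inertia K (θ.1 : K → ℂ) with hTdef
      obtain ⟨S₀⟩ : Nonempty (Sylow p T) := inferInstance
      let S : Sylow p G := Sylow.ofCard ((S₀ : Subgroup T).map T.subtype) (by
        rw [Subgroup.card_map_of_injective T.subtype_injective, S₀.card_eq_multiplicity,
          ← T.card_mul_index, Nat.factorization_mul Nat.card_pos.ne' Subgroup.index_ne_zero_of_finite,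
          Finsupp.add_apply, Nat.factorization_eq_zero_of_not_dvd hT, add_zero])
      obtain ⟨g, hg⟩ := MulAction.exists_smul_eq G P S
      let θg : IrrCharacter K := ⟨conjNormFun K g (θ.1 : K → ℂ), isIrr_conjNormFun K g θ.1.2⟩
      have hgr : ∀ k : K, ((θg : K → ℂ) k).im = 0 := fun k => θ.2 _
      have hgi : Inv φ (θg : K → ℂ) := by
        intro s k
        have h1 : g * (s : G) * g⁻¹ ∈ T := by
          have h2 : g * (s : G) * g⁻¹ ∈ MulAut.conj g • (P : Subgroup G) := by
            rw [mem_conj_smul_iff]; simpa [mul_assoc] using s.2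
          rw [show MulAut.conj g • (P : Subgroup G) = (g • P : Sylow p G) from rfl, hg] at h2
          exact Subgroup.map_subtype_le (S₀ : Subgroup T) h2
        have h3 := congrFun ((mem_inertia K).1 h1)
          ⟨g * (k : G) * g⁻¹, Subgroup.Normal.conj_mem inferInstance _ k.2 _⟩
        refine Eq.trans (congrArg (θ.1 : K → ℂ) (Subtype.ext ?_)) h3
        show g * ((φ s k : K) : G) * g⁻¹ = g * (s : G) * g⁻¹ * (g * (k : G) * g⁻¹) * (g * (s : G) * g⁻¹)⁻¹
        rw [hφ]; group
      obtain ⟨β, hβ, hβu⟩ := hS.exists_unique_under θg hgi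
      have hβr : ∀ c : C, ((β : C → ℂ) c).im = 0 := by
        let β' : IrrCharacter C := ⟨fun c => conj ((β : C → ℂ) c), isIrrCharacter_conjChar β.2⟩
        have hm : mult ι θg β' = mult ι θg β := by
          apply mult_eq
          have h1 := congrArg (starRingEnd ℂ) (mult_spec ι θg β)
          rw [map_natCast] at h1
          rw [← h1]
          simp only [classInner, β', map_mul, map_sum, map_inv₀, map_natCast, Complex.conj_conj]
          congr 1
          exact Finset.sum_congr rfl fun c _ => by rw [Complex.conj_eq_iff_im.2 (hgr (ι c))]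
        have h2 : β' = β := by
          by_contra hne
          exact hβ (hm ▸ hβu β' hne)
        exact fun c => Complex.conj_eq_iff_im.1 (congrFun (congrArg Subtype.val h2) c)
      refine ⟨Quot.mk _ ⟨β, hβr⟩, Quot.sound ⟨g, fun k k' e => ?_⟩⟩
      show (θ.1 : K → ℂ) k' = (f β : K → ℂ) k
      rw [← hfu β θg ⟨hgi, hβ⟩]
      exact congrArg (θ.1 : K → ℂ) (Subtype.ext e)
  haveI : Finite (Quot rA') := Quot.finite _
  have hle : Nat.card (Quot rA) ≤ Nat.card (Quot rA') := Nat.card_le_card_of_surjective _ hsurj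
  let rB : {x : K // IsConj x x⁻¹} → {x : K // IsConj x x⁻¹} → Prop := fun a b =>
    ∃ g : G, (b.1 : G) = g * a.1 * g⁻¹
  let rB' : {x : C // IsConj x x⁻¹} → {x : C // IsConj x x⁻¹} → Prop := fun a b =>
    ∃ g : N, (b.1 : N) = g * a.1 * g⁻¹
  have hcard : Nat.card (Quot rB) ≤ Nat.card (Quot rB') := by
    have e1 : Nat.card (Quot rA) = Nat.card (Quot rB) := Cfsg.Agent.S4866.result K hodd
    have e2 : Nat.card (Quot rA') = Nat.card (Quot rB') := Cfsg.Agent.S4866.result C hCodd
    omega
  let Ψ : {x : C // IsConj x x⁻¹} → {x : K // IsConj x x⁻¹} := fun c => ⟨ι c.1, by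
    rw [← map_inv]; exact ι.map_isConj c.2⟩
  have hΨ : ∀ a b, rB' a b → rB (Ψ a) (Ψ b) := by
    rintro a b ⟨g, hg⟩
    exact ⟨(g : G), congrArg (fun z : N => (z : G)) hg⟩
  have hEB : Equivalence rB :=
    { refl := fun a => ⟨1, by simp⟩
      symm := by rintro a b ⟨g, hg⟩; exact ⟨g⁻¹, by rw [hg]; group⟩
      trans := by rintro a b c ⟨g, hg⟩ ⟨h, hh⟩; exact ⟨h * g, by rw [hh, hg]; group⟩ }
  have hinj : Function.Injective (Quot.map Ψ hΨ) := by
    intro a b
    induction a using Quot.ind with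
    | _ a =>
      induction b using Quot.ind with
      | _ b =>
        intro e
        obtain ⟨g, hg⟩ : rB (Ψ a) (Ψ b) := by
          have := Quot.eqvGen_exact e
          rwa [hEB.eqvGen_iff] at this
        -- two Sylow subgroups of the centraliser
        have hg' : ((b.1 : N) : G) = g * ((a.1 : N) : G) * g⁻¹ := hg
        set D := Subgroup.centralizer ({((b.1 : N) : G)} : Set G)
        have hPD : (P : Subgroup G) ≤ D := fun y hy =>
          Subgroup.mem_centralizer_singleton_iff.2 (hcent b.1 y hy)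
        have hgPD : ((g • P : Sylow p G) : Subgroup G) ≤ D := by
          intro y hy
          rw [show ((g • P : Sylow p G) : Subgroup G) = MulAut.conj g • (P : Subgroup G) from rfl,
            mem_conj_smul_iff] at hy
          rw [Subgroup.mem_centralizer_singleton_iff, hg']
          have := hcent a.1 _ hy
          calc y * (g * ((a.1 : N) : G) * g⁻¹) = g * ((g⁻¹ * y * g) * ((a.1 : N) : G)) * g⁻¹ := by group
            _ = g * (((a.1 : N) : G) * (g⁻¹ * y * g)) * g⁻¹ := by rw [this]
            _ = g * ((a.1 : N) : G) * g⁻¹ * y := by group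
        obtain ⟨h, hh⟩ := MulAction.exists_smul_eq D ((g • P).subtype hgPD) (P.subtype hPD)
        have hh' : (((h : G) * g) • P : Sylow p G) = P := by
          have h1 : ((h : G) • (g • P) : Sylow p G) = P := by
            refine Sylow.subtype_injective (hP := ?_) (hQ := hPD) ?_
            · intro y hy
              rw [show (((h : G) • (g • P) : Sylow p G) : Subgroup G) =
                MulAut.conj (h : G) • ((g • P : Sylow p G) : Subgroup G) from rfl, mem_conj_smul_iff] at hy
              have h2 := mul_mem (mul_mem h.2 (hgPD hy)) (inv_mem h.2)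
              simpa [mul_assoc] using h2
            · rw [← hh, Sylow.smul_subtype]
              rfl
          rwa [← mul_smul] at h1
        refine Quot.sound ⟨⟨(h : G) * g, Sylow.smul_eq_iff_mem_normalizer.1 hh'⟩, Subtype.ext ?_⟩
        show ((b.1 : N) : G) = (h : G) * g * ((a.1 : N) : G) * ((h : G) * g)⁻¹
        have h3 := Subgroup.mem_centralizer_singleton_iff.1 h.2
        rw [mul_inv_rev, show (h : G) * g * ((a.1 : N) : G) * (g⁻¹ * (h : G)⁻¹) =
          (h : G) * (g * ((a.1 : N) : G) * g⁻¹) * (h : G)⁻¹ by group, ← hg', h3, mul_inv_cancel_right]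
  haveI : Finite (Quot rB) := Quot.finite _
  obtain ⟨q, hq⟩ := (hinj.bijective_of_nat_card_le hcard).surjective (Quot.mk _ ⟨x, hx⟩)
  induction q using Quot.ind with
  | _ c =>
    obtain ⟨g, hg⟩ : rB ⟨x, hx⟩ (Ψ c) := by
      have := Quot.eqvGen_exact hq.symm
      rwa [hEB.eqvGen_iff] at this
    refine ⟨g, fun y hy => ?_⟩
    have hg' : ((c.1 : N) : G) = g * (x : G) * g⁻¹ := hg
    rw [← hg']
    exact hcent c.1 y hy

/-- A real element is real inside the subgroup generated by the 2-elements. -/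
theorem real_mem_primeClosure {x : G} (hx : IsConj x x⁻¹) :
    ∃ w ∈ primeClosure 2 G, w * x * w⁻¹ = x⁻¹ ∧ x ∈ primeClosure 2 G := by
  classical
  haveI : Fact (Nat.Prime 2) := ⟨Nat.prime_two⟩
  obtain ⟨g, hg⟩ := isConj_iff.1 hx
  set k := (orderOf g).factorization 2
  set m := orderOf g / 2 ^ k with hm
  have hm0 : ¬ 2 ∣ m := Nat.not_dvd_ordCompl Nat.prime_two (orderOf_pos g).ne'
  have hmne : m ≠ 0 := fun h => hm0 (by rw [h]; exact dvd_zero 2)
  have hord : orderOf (g ^ m) = 2 ^ k := by
    rw [orderOf_pow' g hmne, Nat.gcd_eq_right (Nat.ordCompl_dvd (orderOf g) 2)]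
    exact Nat.div_eq_of_eq_mul_left (Nat.pos_of_ne_zero hmne)
      (Nat.ordProj_mul_ordCompl_eq_self (orderOf g) 2).symm
  have hpow : ∀ j : ℕ, g ^ (2 * j + 1) * x * (g ^ (2 * j + 1))⁻¹ = x⁻¹ := by
    intro j
    induction j with
    | zero => simpa using hg
    | succ j ih =>
      rw [show 2 * (j + 1) + 1 = 2 + (2 * j + 1) by ring, pow_add, mul_inv_rev,
        show g ^ 2 * g ^ (2 * j + 1) * x * ((g ^ (2 * j + 1))⁻¹ * (g ^ 2)⁻¹) =
          g ^ 2 * (g ^ (2 * j + 1) * x * (g ^ (2 * j + 1))⁻¹) * (g ^ 2)⁻¹ by group, ih]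
      calc g ^ 2 * x⁻¹ * (g ^ 2)⁻¹ = g * (g * x * g⁻¹)⁻¹ * g⁻¹ := by rw [pow_two]; group
        _ = x⁻¹ := by rw [hg, inv_inv, hg]
  obtain ⟨j, hj⟩ : Odd m := Nat.odd_iff.2 (by omega)
  set w := g ^ m with hw
  have hwK : w ∈ primeClosure 2 G := mem_primeClosure hord
  have hwx : w * x * w⁻¹ = x⁻¹ := by rw [hw, hj]; exact hpow j
  refine ⟨w, hwK, hwx, ?_⟩
  have h2 : x * x ∈ primeClosure 2 G := by
    have h1 : w * (x * w⁻¹ * x⁻¹) ∈ primeClosure 2 G :=
      mul_mem hwK ((primeClosure_normal 2).conj_mem _ (inv_mem hwK) x)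
    rw [show w * (x * w⁻¹ * x⁻¹) = (x * x)⁻¹ by
      rw [show w * (x * w⁻¹ * x⁻¹) = (w * x * w⁻¹) * x⁻¹ by group, hwx, mul_inv_rev]] at h1
    simpa using inv_mem h1
  haveI := primeClosure_normal (G := G) 2
  rw [← QuotientGroup.eq_one_iff, ← orderOf_eq_one_iff]
  refine Nat.eq_one_of_dvd_coprimes (Nat.coprime_two_left.2 (odd_index_two (G := G))) ?_ ?_
  · refine orderOf_dvd_of_pow_eq_one ?_
    rw [pow_two, ← QuotientGroup.mk_mul, QuotientGroup.eq_one_iff]
    exact h2
  · rw [Subgroup.index_eq_card]; exact orderOf_dvd_natCard _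

/-- S4864. -/
theorem exists_conj_normalizer (hsol : Group.IsSolvable ↥(primeClosure p G)) (hreal : RealHyp p G)
    (P : Sylow p G) (x : G) (hx : IsConj x x⁻¹) :
    ∃ y ∈ Subgroup.normalizer ((P : Subgroup G) : Set G), IsConj x y := by
  classical
  haveI : Fact (Nat.Prime 2) := ⟨Nat.prime_two⟩
  set K := primeClosure 2 G with hK
  haveI := inf_normal (p := p) _ G le_rfl hsol hreal K (primeClosure_normal 2) le_rfl
    ⟨0, Subgroup.relIndex_self _⟩ P
  set Q := (P : Subgroup G) ⊓ K with hQ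
  set π := QuotientGroup.mk' Q with hπ
  have hsurj := QuotientGroup.mk'_surjective Q
  have hKmap : K.map π = primeClosure 2 (G ⧸ Q) := primeClosure_map π hsurj
  have hKp : ¬ p ∣ Nat.card (K.map π) := by
    have h1 : Nat.card (K.map π) = Q.relIndex K := by
      rw [← Subgroup.relIndex_ker, hπ, QuotientGroup.ker_mk']
    rw [h1, hQ, Subgroup.inf_relIndex_right]
    refine fun hd => P.not_dvd_index (hd.trans ?_)
    obtain ⟨e, he⟩ := Subgroup.relIndex_dvd_index_of_normal K (P : Subgroup G)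
    refine ⟨e, Nat.eq_of_mul_eq_mul_left (Nat.card_pos (α := ↥(P : Subgroup G))) ?_⟩
    have e1 : Nat.card ↥((P : Subgroup G) ⊓ K) * K.relIndex (P : Subgroup G) = Nat.card (P : Subgroup G) := by
      rw [← Subgroup.inf_relIndex_left (P : Subgroup G) K, ← Subgroup.relIndex_bot_left,
        ← Subgroup.relIndex_bot_left, Subgroup.relIndex_mul_relIndex _ _ _ bot_le inf_le_left]
    have e2 : Nat.card ↥((P : Subgroup G) ⊓ K) * (P : Subgroup G).relIndex K = Nat.card K := by
      rw [← Subgroup.inf_relIndex_right (P : Subgroup G) K, ← Subgroup.relIndex_bot_left,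
        ← Subgroup.relIndex_bot_left, Subgroup.relIndex_mul_relIndex _ _ _ bot_le inf_le_right]
    rw [Subgroup.card_mul_index, ← Subgroup.card_mul_index K, he, ← e1, ← e2]
    ring
  haveI : (K.map π).Normal := Subgroup.Normal.map inferInstance π hsurj
  obtain ⟨w, hw, hwx, hxK⟩ := real_mem_primeClosure hx
  have hodd : Odd (K.map π).index := hKmap ▸ odd_index_two
  obtain ⟨g, hg⟩ := real_meets (hreal.of_surjective hsurj) (K.map π) hodd hKp (P.mapSurjective hsurj)
    ⟨π x, Subgroup.mem_map_of_mem π hxK⟩ (isConj_iff.2 ⟨⟨π w, Subgroup.mem_map_of_mem π hw⟩, Subtype.ext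
      (by show π w * π x * (π w)⁻¹ = (π x)⁻¹; rw [← map_inv, ← map_inv, ← map_mul, ← map_mul, hwx])⟩)
  obtain ⟨g, rfl⟩ := hsurj g
  refine ⟨g * x * g⁻¹, ?_, isConj_iff.2 ⟨g, rfl⟩⟩
  set y := g * x * g⁻¹ with hy
  rw [Subgroup.mem_normalizer_iff_map_conj_eq]
  refine Subgroup.eq_of_le_of_card_ge ?_ (le_of_eq
    (Subgroup.card_map_of_injective (K := (P : Subgroup G)) (MulEquiv.injective _)).symm)
  rintro _ ⟨a, ha, rfl⟩
  have h1 : π a * π y = π y * π a := by
    have := hg (π a) (Subgroup.mem_map_of_mem π ha)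
    simpa only [hy, map_mul, map_inv] using this
  have h2 : a⁻¹ * (y * a * y⁻¹) ∈ Q := by
    rw [← QuotientGroup.eq_one_iff]
    show π (a⁻¹ * (y * a * y⁻¹)) = 1
    rw [map_mul, map_mul, map_mul, map_inv, map_inv, ← h1]
    group
  have := mul_mem ha (Subgroup.mem_inf.1 h2).1
  simpa using this

end CfsgLib.RealPPrime
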