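import Cfsg.Agent.Lib.RealPPrime.Basic
import Cfsg.Agent.Lib.Elementary
import Cfsg.Agent.Lib.NormalizerExtension.Main
import Cfsg.Agent.S3744
import Cfsg.Agent.Lib.Blocks.AbelianDefectIndex

/-!
# Groups whose real irreducible characters have `p'`-degree: normal Sylow subgroups
-/

namespace CfsgLib.RealPPrime

open Cfsg CfsgLib CfsgLib.CharTheory CfsgLib.Blocks
open scoped ComplexConjugate commutatorElement Pointwise

set_option autoImplicit false
set_option linter.unusedSectionVars false
set_option linter.style.haveILetI false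

universe u

variable {G : Type u} [Group G] [Finite G] {p : ℕ} [Fact p.Prime]

/-- A linear character of a normal subgroup extends over a complement of it in its stabiliser. -/
theorem exists_real_induced (N H : Subgroup G) [N.Normal] [Fintype G] [Fintype N] (hsup : N ⊔ H = ⊤)
    (hinf : N ⊓ H = ⊥) (lam : N →* ℂˣ) (h2 : ∀ n : N, lam n * lam n = 1) :
    ∃ χ : IrrCharacter G, (∀ g : G, ((χ : G → ℂ) g).im = 0) ∧
      charDegree (χ : G → ℂ) = (inertia N (fun n : N => (lam n : ℂ))).index := by
  classical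
  set θ : N → ℂ := fun n => (lam n : ℂ) with hθ
  have hirr : IsIrrCharacter N θ := isIrrCharacter_linear lam
  set T := inertia N θ with hT
  haveI := Fintype.ofFinite T
  have hNT : N ≤ T := le_inertia N (isClassFunction_irr hirr)
  have hdec : ∀ t : G, ∃ n : N, (n : G)⁻¹ * t ∈ H := by
    intro t
    obtain ⟨n, hn, h, hh, e⟩ := Subgroup.mem_sup_of_normal_left.1
      (show t ∈ N ⊔ H from hsup ▸ Subgroup.mem_top t)
    exact ⟨⟨n, hn⟩, by rw [← e, inv_mul_cancel_left]; exact hh⟩
  choose f hf using hdec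
  have huniq : ∀ (t : G) (n : N), (n : G)⁻¹ * t ∈ H → f t = n := fun t n hn => by
    have h1 : (f t : G)⁻¹ * n ∈ N ⊓ H :=
      Subgroup.mem_inf.2 ⟨mul_mem (inv_mem (f t).2) n.2, by simpa [mul_assoc] using mul_mem (hf t) (inv_mem hn)⟩
    rw [hinf, Subgroup.mem_bot, inv_mul_eq_one] at h1
    exact Subtype.ext h1
  let μ : T →* ℂˣ :=
    { toFun := fun t => lam (f (t : G))
      map_one' := by
        rw [huniq ((1 : T) : G) 1 (by simp)]
        exact map_one lam
      map_mul' := fun a b => by
        set c : N := ⟨((f a : G)⁻¹ * a) * f b * ((f a : G)⁻¹ * a)⁻¹,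
          (inferInstance : N.Normal).conj_mem _ (f b).2 _⟩ with hc
        have hab' : f ((a * b : T) : G) = f a * c := huniq _ _ (by
          have := mul_mem (hf a) (hf b)
          convert this using 1
          simp only [hc, Subgroup.coe_mul]
          group)
        rw [hab', map_mul]
        congr 1
        have hh : (f a : G)⁻¹ * a ∈ T := mul_mem (inv_mem (hNT (f a).2)) a.2
        exact Units.ext (congrFun ((mem_inertia N).1 hh) (f b)) }
  have hψ : IsIrrCharacter T (fun t : T => (μ t : ℂ)) := isIrrCharacter_linear μ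
  have hres : classInner (fun n : N => ((μ ⟨n, hNT n.2⟩ : ℂˣ) : ℂ)) θ ≠ 0 := by
    rw [show (fun n : N => ((μ ⟨n, hNT n.2⟩ : ℂˣ) : ℂ)) = θ from funext fun n => by
      show ((lam (f (n : G)) : ℂˣ) : ℂ) = _
      rw [huniq (n : G) n (by simp)], classInner_irr_self hirr]
    exact one_ne_zero
  have hX := (clifford_correspondence N hirr hNT hT hψ hres).1
  have hreal : ∀ t : T, conj ((μ t : ℂˣ) : ℂ) = μ t := fun t => by
    rcases mul_self_eq_one_iff.1 (show ((μ t : ℂˣ) : ℂ) * μ t = 1 by
      rw [← Units.val_mul]; exact congrArg Units.val (h2 (f t))) with h | h <;> simp [h]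
  refine ⟨⟨_, hX⟩, fun g => Complex.conj_eq_iff_im.1 ?_, ?_⟩
  · show conj (indFun T (fun t : T => (μ t : ℂ)) g) = indFun T (fun t : T => (μ t : ℂ)) g
    simp only [indFun, map_mul, map_inv₀, map_natCast, map_sum]
    refine congrArg _ (Finset.sum_congr rfl fun x _ => ?_)
    by_cases hy : x⁻¹ * g * x ∈ T
    · rw [extendByZero_of_mem T _ hy, hreal]
    · rw [extendByZero_of_not_mem T _ hy, map_zero]
  · show ⌊(indFun T (fun t : T => (μ t : ℂ)) 1).re⌋₊ = _
    rw [indFun_apply_one]
    simp

/-- If a 2-element moves an abelian normal subgroup of odd order it inverts some non-trivial linear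
character of it. -/
theorem exists_inverted (N : Subgroup G) [N.Normal] {x : G} {k : ℕ} (hx : orderOf x = 2 ^ k)
    (l₀ : N →* ℂˣ) {n₀ n₁ : N} (he : (n₁ : G) = x * n₀ * x⁻¹) (hl : l₀ n₁ ≠ l₀ n₀) :
    ∃ (w : G) (j : ℕ) (lam : N →* ℂˣ), orderOf w = 2 ^ j ∧ lam ≠ 1 ∧
      ∀ m m' : N, (m' : G) = w * m * w⁻¹ → lam m' = (lam m)⁻¹ := by
  classical
  induction k generalizing x l₀ n₀ n₁ with
  | zero =>
    rw [pow_zero, orderOf_eq_one_iff] at hx
    subst hx
    exact absurd (by rw [show n₁ = n₀ from Subtype.ext (by simpa using he)]) hl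
  | succ k ih =>
    let c : N ≃* N := MulAut.conjNormal x
    have hc : ∀ m : N, ((c m : N) : G) = x * m * x⁻¹ := fun m => MulAut.conjNormal_apply x m
    by_cases h2 : ∀ m : N, l₀ (c (c m)) = l₀ m
    · refine ⟨x, k + 1, (l₀.comp c.toMonoidHom) / l₀, hx, fun h1 => hl ?_, fun m m' e => ?_⟩
      · have h3 := DFunLike.congr_fun h1 n₀
        rw [MonoidHom.div_apply, MonoidHom.one_apply, div_eq_one] at h3
        rw [show n₁ = c n₀ from Subtype.ext (he.trans (hc n₀).symm)]
        exact h3
      · rw [show m' = c m from Subtype.ext (e.trans (hc m).symm)]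
        show (l₀.comp c.toMonoidHom / l₀) (c m) = ((l₀.comp c.toMonoidHom / l₀) m)⁻¹
        rw [MonoidHom.div_apply, MonoidHom.div_apply, MonoidHom.comp_apply, MonoidHom.comp_apply,
          inv_div]
        show l₀ (c (c m)) / l₀ (c m) = l₀ m / l₀ (c m)
        rw [h2 m]
    · push Not at h2
      obtain ⟨m, hm⟩ := h2
      refine ih (x := x ^ 2) ?_ l₀ (n₀ := m) (n₁ := c (c m)) ?_ hm
      · rw [orderOf_pow' x two_ne_zero, hx, pow_succ, Nat.gcd_eq_right (Dvd.intro_left _ rfl),
          Nat.mul_div_cancel _ two_pos]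
      · rw [hc, hc, pow_two]; group

/-- The normal Sylow subgroup. -/
theorem inf_normal : ∀ (n : ℕ) (G : Type u) [Group G] [Finite G], Nat.card G ≤ n →
    Group.IsSolvable ↥(primeClosure p G) → RealHyp p G →
    ∀ (U : Subgroup G), U.Normal → primeClosure 2 G ≤ U → (∃ a, (primeClosure 2 G).relIndex U = p ^ a) →
    ∀ P : Sylow p G, ((P : Subgroup G) ⊓ U).Normal := by
  intro n
  induction n using Nat.strong_induction_on with
  | _ n ih =>
  intro G _ _ hn hsol hreal U hUn hKU hUp P
  classical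
  haveI := hUn
  haveI := Fintype.ofFinite G
  haveI h2f : Fact (Nat.Prime 2) := ⟨Nat.prime_two⟩
  have hp : p.Prime := Fact.out
  set K := primeClosure 2 G with hK
  set R := (P : Subgroup G) ⊓ U with hR
  have hRp : IsPGroup p R := P.2.to_le inf_le_left
  -- `R` is a Sylow subgroup of `U`
  have hRU : ¬ p ∣ R.relIndex U := by
    rw [hR, Subgroup.inf_relIndex_right]
    refine fun hd => P.not_dvd_index (hd.trans ?_)
    obtain ⟨e, he⟩ := Subgroup.relIndex_dvd_index_of_normal U (P : Subgroup G)
    refine ⟨e, Nat.eq_of_mul_eq_mul_left (Nat.card_pos (α := ↥(P : Subgroup G))) ?_⟩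
    have e1 : Nat.card ↥((P : Subgroup G) ⊓ U) * U.relIndex (P : Subgroup G) = Nat.card (P : Subgroup G) := by
      rw [← Subgroup.inf_relIndex_left (P : Subgroup G) U, ← Subgroup.relIndex_bot_left,
        ← Subgroup.relIndex_bot_left, Subgroup.relIndex_mul_relIndex _ _ _ bot_le inf_le_left]
    have e2 : Nat.card ↥((P : Subgroup G) ⊓ U) * (P : Subgroup G).relIndex U = Nat.card U := by
      rw [← Subgroup.inf_relIndex_right (P : Subgroup G) U, ← Subgroup.relIndex_bot_left,
        ← Subgroup.relIndex_bot_left, Subgroup.relIndex_mul_relIndex _ _ _ bot_le inf_le_right]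
    rw [Subgroup.card_mul_index, ← Subgroup.card_mul_index U, he, ← e1, ← e2]
    ring
  have hKR : K ⊔ R = U := by
    refine Subgroup.eq_of_le_of_card_ge (sup_le hKU inf_le_right) (le_of_eq ?_)
    obtain ⟨a, ha⟩ := hUp
    have h1 : (K ⊔ R).relIndex U = 1 := Nat.eq_one_of_dvd_coprimes
      ((hp.coprime_iff_not_dvd.2 hRU).pow_left a)
      (ha ▸ Subgroup.relIndex_dvd_of_le_left U le_sup_left)
      (Subgroup.relIndex_dvd_of_le_left U le_sup_right)
    rw [← Subgroup.relIndex_bot_left, ← Subgroup.relIndex_bot_left,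
      ← Subgroup.relIndex_mul_relIndex ⊥ (K ⊔ R) U bot_le (sup_le hKU inf_le_right), h1, mul_one]
  -- conjugates of `R` and the commutator with `K`
  have hRps : R ≤ primeClosure p G := isPGroup_le_primeClosure hRp
  have hnorm_of_cent : (∀ x ∈ K, x ∈ Subgroup.normalizer (R : Set G)) → R.Normal := by
    intro h
    haveI : (R.subgroupOf U).Normal := (Subgroup.normal_subgroupOf_iff_le_normalizer inf_le_right).2
      (hKR.symm.le.trans (sup_le h Subgroup.le_normalizer))
    have hcardU : Nat.card (R.subgroupOf U) = p ^ (Nat.card U).factorization p := by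
      rw [Nat.card_congr (Subgroup.subgroupOfEquivOfLe (inf_le_right : R ≤ U)).toEquiv]
      obtain ⟨k, hk⟩ := IsPGroup.iff_card.1 hRp
      have h3 : Nat.card R * R.relIndex U = Nat.card U := by
        rw [← Subgroup.relIndex_bot_left, ← Subgroup.relIndex_bot_left,
          Subgroup.relIndex_mul_relIndex _ _ _ bot_le inf_le_right]
      rw [← h3, hk, Nat.factorization_mul (pow_ne_zero _ hp.ne_zero) (fun h0 => hRU (by rw [h0]; exact dvd_zero p)),
        Finsupp.add_apply, Nat.Prime.factorization_pow hp, Finsupp.single_eq_same,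
        Nat.factorization_eq_zero_of_not_dvd hRU, add_zero]
    have hch : (R.subgroupOf U).Characteristic := by
      have h4 := (Sylow.ofCard (R.subgroupOf U) hcardU).characteristic_of_normal
        (by rw [Sylow.coe_ofCard]; infer_instance)
      rwa [Sylow.coe_ofCard] at h4
    have h5 : ((R.subgroupOf U).map U.subtype).Normal := inferInstance
    rwa [Subgroup.map_subgroupOf_eq_of_le inf_le_right] at h5
  by_cases hL : K ⊓ primeClosure p G = ⊥
  · refine hnorm_of_cent fun x hx => ?_
    rw [Subgroup.mem_normalizer_iff]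
    have hc : ∀ r ∈ R, x * r * x⁻¹ = r := fun r hr => by
      have h1 : x * r * x⁻¹ * r⁻¹ ∈ K ⊓ primeClosure p G := Subgroup.mem_inf.2 ⟨by
          have := mul_mem hx ((inferInstance : K.Normal).conj_mem x⁻¹ (inv_mem hx) r)
          simpa [mul_assoc] using this,
        mul_mem ((inferInstance : (primeClosure p G).Normal).conj_mem r (hRps hr) x) (inv_mem (hRps hr))⟩
      rw [hL, Subgroup.mem_bot, mul_inv_eq_one] at h1
      exact h1
    intro r
    refine ⟨fun hr => (hc r hr).symm ▸ hr, fun hr => ?_⟩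
    have e := hc _ hr
    have : x * r * x⁻¹ = r := by
      have e2 := congrArg (fun z => x⁻¹ * z * x) e
      simpa [mul_assoc] using e2
    rwa [this] at hr
  haveI : (K ⊓ primeClosure p G).Normal := Subgroup.normal_inf_normal _ _
  obtain ⟨N, hNn, hNle, hN0, hmin⟩ := exists_minimal_normal hL
  haveI := hNn
  haveI := Fintype.ofFinite N
  have hNK : N ≤ K := hNle.trans inf_le_left
  have hNsol : Group.IsSolvable N := by
    haveI := hsol
    exact Group.isSolvable_of_isSolvable_injective
      (f := Subgroup.inclusion (hNle.trans inf_le_right)) (Subgroup.inclusion_injective _)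
  obtain ⟨hab0, q, hq, hexp⟩ := minimal_normal_elementary hN0 hNsol hmin
  haveI : Fact q.Prime := ⟨hq⟩
  have hab : ∀ a ∈ N, ∀ b ∈ N, a * b = b * a := fun a ha b hb =>
    congrArg Subtype.val (hab0.is_comm.comm (⟨a, ha⟩ : N) ⟨b, hb⟩)
  have hNq : IsPGroup q N := fun x => ⟨1, Subtype.ext (by simpa using hexp x x.2)⟩
  -- the quotient
  set π := QuotientGroup.mk' N with hπ
  have hsurj := QuotientGroup.mk'_surjective N
  have hlt : Nat.card (G ⧸ N) < n := by
    refine lt_of_lt_of_le ?_ hn
    rw [Subgroup.card_eq_card_quotient_mul_card_subgroup N]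
    exact lt_mul_of_one_lt_right Nat.card_pos (N.one_lt_card_iff_ne_bot.2 hN0)
  haveI : Group.IsSolvable ↥(primeClosure p (G ⧸ N)) := by
    haveI := hsol
    rw [← primeClosure_map (p := p) π hsurj]
    exact Group.isSolvable_of_surjective (π.subgroupMap_surjective (primeClosure p G))
  haveI : (U.map π).Normal := hUn.map π hsurj
  have IH := ih _ hlt (G ⧸ N) le_rfl inferInstance (hreal.of_surjective hsurj) (U.map π) inferInstance
    (by rw [← primeClosure_map (p := 2) π hsurj]; exact Subgroup.map_mono hKU)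
    (by
      obtain ⟨a, ha⟩ := hUp
      rw [← primeClosure_map (p := 2) π hsurj, Subgroup.relIndex_map_map]
      have hN' : N ≤ U := hNK.trans hKU
      rw [hπ, QuotientGroup.ker_mk', sup_eq_left.2 hNK, sup_eq_left.2 hN']
      exact ⟨a, ha⟩)
    (P.mapSurjective hsurj)
  set W := N ⊔ R with hW
  have hWc : W = ((P.mapSurjective hsurj : Subgroup (G ⧸ N)) ⊓ U.map π).comap π := by
    have hNU : N ≤ U := hNK.trans hKU
    apply le_antisymm
    · refine sup_le (fun x hx => ?_) fun x hx => ?_
      · rw [Subgroup.mem_comap]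
        rw [show π x = 1 from (QuotientGroup.eq_one_iff x).2 hx]
        exact one_mem _
      · exact Subgroup.mem_inf.2 ⟨Subgroup.mem_map_of_mem π hx.1, Subgroup.mem_map_of_mem π hx.2⟩
    · intro x hx
      obtain ⟨⟨y, hy, hye⟩, ⟨z, hz, hze⟩⟩ := hx
      have hyx : y⁻¹ * x ∈ N := QuotientGroup.eq.1 hye
      have hyU : y ∈ U := by
        have h1 : y⁻¹ * z ∈ N := QuotientGroup.eq.1 (hye.trans hze.symm)
        have := mul_mem hz (inv_mem (hNU h1))
        simpa [mul_assoc] using this
      have : x = y * (y⁻¹ * x) := (mul_inv_cancel_left y x).symm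
      rw [this]
      exact mul_mem (Subgroup.mem_sup_right (Subgroup.mem_inf.2 ⟨hy, hyU⟩)) (Subgroup.mem_sup_left hyx)
  haveI hWn : W.Normal := hWc ▸ Subgroup.Normal.comap IH π
  by_cases hqp : q = p
  · subst hqp
    have hNR : N ≤ R := le_inf (hNq.le_sylow_of_normal P) (hNK.trans hKU)
    rw [hW, sup_eq_right.2 hNR] at hWn
    exact hWn
  have hNRc : ∀ x ∈ N, x ∈ R → x = 1 := fun x hxN hxR => by
    rw [← orderOf_eq_one_iff]
    obtain ⟨a, ha⟩ := IsPGroup.iff_card.1 hNq
    obtain ⟨b, hb⟩ := IsPGroup.iff_card.1 hRp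
    exact Nat.eq_one_of_dvd_coprimes ((((Nat.coprime_primes hq hp).2 hqp).pow_left a).pow_right b)
      (ha ▸ Subgroup.orderOf_dvd_natCard _ hxN) (hb ▸ Subgroup.orderOf_dvd_natCard _ hxR)
  set H := Subgroup.normalizer (R : Set G) with hH
  -- Frattini argument
  have hWp : ∀ S : Subgroup G, S ≤ W → IsPGroup p S → Nat.card S = Nat.card R →
      ∃ y ∈ N, S.map (MulAut.conj y).toMonoidHom = R := by
    intro S hSW hSp hcard
    set R' := R.subgroupOf W
    set S' := S.subgroupOf W
    set N' := N.subgroupOf W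
    haveI : N'.Normal := Subgroup.normal_subgroupOf
    have hcN : Nat.card N' = Nat.card N :=
      Nat.card_congr (Subgroup.subgroupOfEquivOfLe le_sup_left).toEquiv
    have hcompl : ∀ T : Subgroup G, T ≤ W → IsPGroup p T → Nat.card T = Nat.card R →
        Subgroup.IsComplement' N' (T.subgroupOf W) := by
      intro T hTW hTp hTc
      have hdis : Disjoint N' (T.subgroupOf W) := by
        refine Subgroup.disjoint_of_coprime_natCard ?_
        rw [hcN, Nat.card_congr (Subgroup.subgroupOfEquivOfLe hTW).toEquiv]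
        obtain ⟨a, ha⟩ := IsPGroup.iff_card.1 hNq
        obtain ⟨b, hb⟩ := IsPGroup.iff_card.1 hTp
        rw [ha, hb]
        exact (((Nat.coprime_primes hq hp).2 hqp).pow_left a).pow_right b
      refine Subgroup.isComplement'_of_card_mul_and_disjoint ?_ hdis
      rw [hcN, Nat.card_congr (Subgroup.subgroupOfEquivOfLe hTW).toEquiv, hTc]
      have hR'c : Subgroup.IsComplement' N' R' := by
        refine Subgroup.isComplement'_of_disjoint_and_mul_eq_univ ?_ ?_
        · rw [Subgroup.disjoint_def]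
          intro x hx hx'
          exact Subtype.ext (hNRc _ hx hx')
        · refine Set.eq_univ_of_forall fun x => ?_
          obtain ⟨a, ha, b, hb, e⟩ := Subgroup.mem_sup_of_normal_left.1 x.2
          exact ⟨⟨a, Subgroup.mem_sup_left ha⟩, ha, ⟨b, Subgroup.mem_sup_right hb⟩, hb, Subtype.ext e⟩
      rw [← hR'c.card_mul, hcN, Nat.card_congr (Subgroup.subgroupOfEquivOfLe (le_sup_right : R ≤ W)).toEquiv]
    have hcop : (Nat.card N').Coprime N'.index := by
      rw [(hcompl R le_sup_right hRp rfl).symm.index_eq_card, hcN,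
        Nat.card_congr (Subgroup.subgroupOfEquivOfLe (le_sup_right : R ≤ W)).toEquiv]
      obtain ⟨a, ha⟩ := IsPGroup.iff_card.1 hNq
      obtain ⟨b, hb⟩ := IsPGroup.iff_card.1 hRp
      rw [ha, hb]
      exact (((Nat.coprime_primes hq hp).2 hqp).pow_left a).pow_right b
    have hN'sol : Group.IsSolvable N' := by
      haveI := hNsol
      exact Group.isSolvable_of_isSolvable_injective
        (f := (Subgroup.subgroupOfEquivOfLe (le_sup_left : N ≤ W)).toMonoidHom)
        (Subgroup.subgroupOfEquivOfLe _).injective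
    obtain ⟨y, hy, hyS⟩ := complements_conj_mem hcop (Or.inl hN'sol) (hcompl S hSW hSp hcard)
      (hcompl R le_sup_right hRp rfl)
    refine ⟨(y : G), hy, Subgroup.eq_of_le_of_card_ge ?_ (le_of_eq ?_)⟩
    · rintro _ ⟨s, hs, rfl⟩
      have h1 : y * ⟨s, hSW hs⟩ * y⁻¹ ∈ MulAut.conj y • S' := by
        rw [mem_conj_smul_iff]; simpa [mul_assoc, S', Subgroup.mem_subgroupOf] using hs
      rw [hyS] at h1
      exact h1
    · rw [Subgroup.card_map_of_injective (MulEquiv.injective _), hcard]
  have hsup : N ⊔ H = ⊤ := by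
    rw [eq_top_iff]
    intro g _
    set S := R.map (MulAut.conj g).toMonoidHom with hS
    obtain ⟨y, hy, hyS⟩ := hWp S (by
        rintro _ ⟨r, hr, rfl⟩
        exact hWn.conj_mem r (Subgroup.mem_sup_right hr) g) (hRp.map _)
      (Subgroup.card_map_of_injective (MulEquiv.injective _))
    have hmem : y * g ∈ H := by
      rw [hH, Subgroup.mem_normalizer_iff_map_conj_eq]
      conv_rhs => rw [← hyS, hS, Subgroup.map_map]
      congr 1
      ext z
      simp [mul_assoc]
    have := Subgroup.mul_mem_sup (inv_mem hy) hmem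
    simpa using this
  have hinf0 : N ⊓ H = ⊥ ∨ N ⊓ H = N := by
    refine hmin (N ⊓ H) ⟨fun k hk g => ?_⟩ inf_le_left
    obtain ⟨a, ha, b, hb, rfl⟩ := Subgroup.mem_sup_of_normal_left.1
      (show g ∈ N ⊔ H from hsup ▸ Subgroup.mem_top g)
    have h1 : b * k * b⁻¹ ∈ N ⊓ H :=
      Subgroup.mem_inf.2 ⟨hNn.conj_mem k hk.1 b, mul_mem (mul_mem hb hk.2) (inv_mem hb)⟩
    rw [show a * b * k * (a * b)⁻¹ = a * (b * k * b⁻¹) * a⁻¹ by group, hab a ha _ h1.1,
      mul_inv_cancel_right]
    exact h1
  rcases hinf0 with hinf | hinf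
  swap
  · refine ⟨fun r hr g => ?_⟩
    have hg : g ∈ H := by
      have : (⊤ : Subgroup G) ≤ H := hsup ▸ sup_le (inf_eq_left.1 hinf) le_rfl
      exact this (Subgroup.mem_top g)
    exact (Subgroup.mem_normalizer_iff.1 hg r).1 hr
  exfalso
  -- a linear character fixed by a Sylow subgroup is trivial
  have hfixtriv : ∀ lam : N →* ℂˣ, ¬ p ∣ (inertia N (fun n : N => (lam n : ℂ))).index → lam = 1 := by
    intro lam hT
    set T := inertia N (fun n : N => (lam n : ℂ)) with hTdef
    have hNT : N ≤ T := le_inertia N (isClassFunction_irr (isIrrCharacter_linear lam))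
    have hRT : R ≤ T := by
      obtain ⟨S₀⟩ : Nonempty (Sylow p T) := inferInstance
      let S : Sylow p G := Sylow.ofCard ((S₀ : Subgroup T).map T.subtype) (by
        rw [Subgroup.card_map_of_injective T.subtype_injective, S₀.card_eq_multiplicity,
          ← T.card_mul_index, Nat.factorization_mul Nat.card_pos.ne' Subgroup.index_ne_zero_of_finite,
          Finsupp.add_apply, Nat.factorization_eq_zero_of_not_dvd hT, add_zero])
      obtain ⟨g, hg⟩ := MulAction.exists_smul_eq G P S
      set R₁ := R.map (MulAut.conj g).toMonoidHom with hR₁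
      have hR₁T : R₁ ≤ T := by
        rintro _ ⟨r, hr, rfl⟩
        have h1 : g * r * g⁻¹ ∈ MulAut.conj g • (P : Subgroup G) := by
          rw [mem_conj_smul_iff]; simpa [mul_assoc] using (Subgroup.mem_inf.1 hr).1
        rw [show MulAut.conj g • (P : Subgroup G) = (g • P : Sylow p G) from rfl, hg] at h1
        exact Subgroup.map_subtype_le (S₀ : Subgroup T) h1
      obtain ⟨y, hy, hyS⟩ := hWp R₁ (by
          rintro _ ⟨r, hr, rfl⟩
          exact hWn.conj_mem r (Subgroup.mem_sup_right hr) g) (hRp.map _)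
        (Subgroup.card_map_of_injective (MulEquiv.injective _))
      rw [← hyS]
      rintro _ ⟨z, hz, rfl⟩
      exact mul_mem (mul_mem (hNT hy) (hR₁T hz)) (inv_mem (hNT hy))
    have hWT : W ≤ T := sup_le hNT hRT
    have hcomm : (⁅N, W⁆ : Subgroup G) ≤ (lam.ker).map N.subtype := by
      rw [Subgroup.commutator_le]
      intro a ha b hb
      refine ⟨⟨a, ha⟩ * ⟨b * a⁻¹ * b⁻¹, hNn.conj_mem _ (inv_mem ha) b⟩, ?_, ?_⟩
      · have h1 : lam ⟨b * a⁻¹ * b⁻¹, hNn.conj_mem _ (inv_mem ha) b⟩ = lam ⟨a, ha⟩⁻¹ := by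
          have h2 := congrFun ((mem_inertia N).1 (hWT hb)) (⟨a, ha⟩⁻¹ : N)
          exact Units.ext h2
        show lam _ = 1
        rw [map_mul, h1, map_inv, mul_inv_cancel]
      · simp [commutatorElement_def, mul_assoc]
    rcases hmin ⁅N, W⁆ inferInstance (Subgroup.commutator_le_left N W) with h | h
    · exfalso
      refine hN0 (le_bot_iff.1 (hinf ▸ le_inf le_rfl fun a ha => ?_))
      rw [hH, Subgroup.mem_normalizer_iff]
      have hc : ∀ r ∈ W, a * r = r * a := fun r hr => by
        have h1 : ⁅a, r⁆ ∈ (⁅N, W⁆ : Subgroup G) := Subgroup.commutator_mem_commutator ha hr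
        rw [h, Subgroup.mem_bot, commutatorElement_eq_one_iff_mul_comm] at h1
        exact h1
      intro r
      refine ⟨fun hr => by rwa [hc r (Subgroup.mem_sup_right hr), mul_inv_cancel_right], fun hr => ?_⟩
      have e := hc _ (Subgroup.mem_sup_right hr)
      have : a * r * a⁻¹ = r := by
        have e2 := congrArg (fun z => a⁻¹ * z) e
        simpa [mul_assoc] using e2
      rwa [this] at hr
    · refine MonoidHom.ext fun m => ?_
      obtain ⟨m', hm', e⟩ := hcomm (h.symm ▸ m.2 : (m : G) ∈ (⁅N, W⁆ : Subgroup G))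
      rw [← show m' = m from Subtype.ext e]
      exact hm'
  letI : CommGroup N := { (inferInstance : Group N) with mul_comm := fun a b => Subtype.ext (hab a a.2 b b.2) }
  by_cases hq2 : q = 2
  · subst hq2
    obtain ⟨a, ha⟩ := (Subgroup.nontrivial_iff_exists_ne_one N).1 ((Subgroup.nontrivial_iff_ne_bot N).2 hN0)
    obtain ⟨lam, hlam⟩ := CommGroup.exists_apply_ne_one_of_hasEnoughRootsOfUnity N ℂ
      (a := (⟨a, ha.1⟩ : N)) (fun e => ha.2 (congrArg Subtype.val e))
    obtain ⟨χ, hχr, hχd⟩ := exists_real_induced N H hsup hinf lam fun m => by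
      rw [← map_mul, show m * m = 1 from Subtype.ext (by
        show (m : G) * m = 1
        rw [← pow_two]; exact hexp m m.2), map_one]
    exact hlam (by rw [hfixtriv lam (hχd ▸ hreal χ hχr)]; rfl)
  have hqodd : Odd (Nat.card N) := by
    obtain ⟨a, ha⟩ := IsPGroup.iff_card.1 hNq
    rw [ha]; exact (hq.odd_of_ne_two hq2).pow
  -- some 2-element moves `N`
  obtain ⟨x, k, hxk, a, ha, hxa⟩ : ∃ (x : G) (k : ℕ), orderOf x = 2 ^ k ∧ ∃ a ∈ N, x * a * x⁻¹ ≠ a := by
    by_contra hno
    push Not at hno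
    have hKH : K ≤ H := by
      rw [hK, primeClosure, Subgroup.closure_le]
      rintro x ⟨k, hk⟩
      obtain ⟨a, ha, b, hb, e⟩ := Subgroup.mem_sup_of_normal_left.1
        (show x ∈ N ⊔ H from hsup ▸ Subgroup.mem_top x)
      have hcomm : Commute a b := by
        have h1 := hno x k hk a ha
        rw [← e] at h1
        show a * b = b * a
        have h2 := congrArg (fun z => a⁻¹ * z * (a * b)) h1
        simp only [mul_assoc] at h2 ⊢
        simpa [mul_assoc] using h2.symm
      have h1 : a ^ 2 ^ k * b ^ 2 ^ k = 1 := by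
        rw [← hcomm.mul_pow, e, ← hk, pow_orderOf_eq_one]
      have h2 : a ^ 2 ^ k ∈ N ⊓ H := Subgroup.mem_inf.2 ⟨pow_mem ha _, by
        rw [eq_inv_of_mul_eq_one_left h1]; exact inv_mem (pow_mem hb _)⟩
      rw [hinf, Subgroup.mem_bot] at h2
      have ha1 : a = 1 := orderOf_eq_one_iff.1 (Nat.eq_one_of_dvd_coprimes
        ((Nat.coprime_two_right.2 hqodd).pow_right k) (Subgroup.orderOf_dvd_natCard _ ha)
        (orderOf_dvd_of_pow_eq_one h2))
      rw [ha1, one_mul] at e
      exact e ▸ hb
    exact hN0 (le_bot_iff.1 (hinf ▸ le_inf le_rfl (hNK.trans hKH)))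
  set n₀ : N := ⟨a, ha⟩
  set n₁ : N := ⟨x * a * x⁻¹, hNn.conj_mem a ha x⟩
  obtain ⟨l₀, hl₀⟩ := CommGroup.exists_apply_ne_one_of_hasEnoughRootsOfUnity N ℂ
    (a := n₁ * n₀⁻¹) (fun e => hxa (congrArg Subtype.val (mul_inv_eq_one.1 e)))
  obtain ⟨w, j, lam, hwj, hlam, hinv⟩ := exists_inverted N hxk l₀ (n₀ := n₀) (n₁ := n₁) rfl
    (fun e => hl₀ (by rw [map_mul, map_inv, e, mul_inv_cancel]))
  obtain ⟨χ, hχr, -, hχd⟩ := exists_real_over N hqodd lam w hwj hinv
  exact hlam (hfixtriv lam fun hd => hreal χ hχr (hd.trans hχd))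

/-- S4861 and S4863. -/
theorem sylow_normal (hsol : Group.IsSolvable ↥(primeClosure p G)) (hreal : RealHyp p G) (U : Subgroup G)
    (hU : U.Normal) (hKU : primeClosure 2 G ≤ U) (hUp : ∃ a, (primeClosure 2 G).relIndex U = p ^ a)
    (Q : Sylow p U) : (Q : Subgroup U).Normal := by
  haveI := hU
  obtain ⟨P, hP⟩ := (Q.2.map U.subtype).exists_le_sylow
  haveI := inf_normal (p := p) _ G le_rfl hsol hreal U hU hKU hUp P
  have e : (Q : Subgroup U) = ((P : Subgroup G) ⊓ U).subgroupOf U := by
    refine (Q.is_maximal' ?_ ?_).symm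
    · exact (P.2.to_le inf_le_left).of_equiv (Subgroup.subgroupOfEquivOfLe inf_le_right).symm
    · intro x hx
      exact Subgroup.mem_subgroupOf.2 (Subgroup.mem_inf.2 ⟨hP (Subgroup.mem_map_of_mem _ hx), x.2⟩)
  rw [e]
  exact Subgroup.normal_subgroupOf

/-- A normal `p`-subgroup inside `P'` is centralised by the 2-elements. -/
theorem closure_le_centralizer (hp2 : p ≠ 2) (hreal : RealHyp p G) (P : Sylow p G) (M : Subgroup G)
    [M.Normal] (hMP : M ≤ ⁅(P : Subgroup G), (P : Subgroup G)⁆) :
    primeClosure 2 G ≤ Subgroup.centralizer (M : Set G) := by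
  classical
  haveI := Fintype.ofFinite G
  haveI := Fintype.ofFinite M
  have hp : p.Prime := Fact.out
  have hMleP : M ≤ (P : Subgroup G) := hMP.trans (Subgroup.commutator_le.2 fun a ha b hb =>
    mul_mem (mul_mem (mul_mem ha hb) (inv_mem ha)) (inv_mem hb))
  have hMp : IsPGroup p M := P.2.to_le hMleP
  obtain ⟨e, he⟩ := IsPGroup.iff_card.1 hMp
  have hModd : Odd (Nat.card M) := by rw [he]; exact (hp.odd_of_ne_two hp2).pow
  -- every linear character of `M` below a real one is trivial
  have hkill : ∀ lam : M →* ℂˣ, ∀ χ : IrrCharacter G, (∀ g : G, ((χ : G → ℂ) g).im = 0) →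
      classInner (fun m : M => (χ : G → ℂ) m) (fun m : M => (lam m : ℂ)) ≠ 0 → lam = 1 := by
    intro lam χ hχr hover
    have hχp := hreal χ hχr
    haveI := Fintype.ofFinite (P : Subgroup G)
    obtain ⟨d, hd, hdn⟩ := CfsgLib.PSolvableLinear.res_decomp (isCharacter_of_irr χ.2) (P : Subgroup G)
      (irr_charDegree_cast χ).symm
    obtain ⟨ν, hν, hνp⟩ : ∃ ν, d ν ≠ 0 ∧ ¬ p ∣ charDegree (ν : ↥(P : Subgroup G) → ℂ) := by
      by_contra hno
      push Not at hno
      have h1 := hd 1
      rw [Subgroup.coe_one, ← irr_charDegree_cast, Finset.sum_congr rfl fun ν _ => by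
        rw [← irr_charDegree_cast ν]] at h1
      have h2 : charDegree (χ : G → ℂ) = ∑ ν : IrrCharacter (P : Subgroup G),
          d ν * charDegree (ν : ↥(P : Subgroup G) → ℂ) := by exact_mod_cast h1
      refine hχp (h2 ▸ Finset.dvd_sum fun ν _ => ?_)
      rcases eq_or_ne (d ν) 0 with h0 | h0
      · rw [h0, zero_mul]; exact dvd_zero p
      · exact dvd_mul_of_dvd_right (hno ν h0) _
    have hν1 : charDegree (ν : ↥(P : Subgroup G) → ℂ) = 1 := by
      obtain ⟨k, hk⟩ := IsPGroup.iff_card.1 P.2
      obtain ⟨m, ρ, hρ, hρν⟩ := id ν.2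
      have hdd : charDegree (ν : ↥(P : Subgroup G) → ℂ) = Module.finrank ℂ (Fin m → ℂ) := by
        have := irr_charDegree_cast ν
        rw [← hρν, ρ.char_one] at this
        rw [← hρν]
        exact_mod_cast this
      obtain ⟨j, -, hj⟩ := (Nat.dvd_prime_pow hp).1 (hk ▸ (hdd ▸ finrank_dvd_card ρ))
      rcases Nat.eq_zero_or_pos j with rfl | hj0
      · rw [hj, pow_zero]
      · exact absurd (hj ▸ dvd_pow_self p hj0.ne') hνp
    obtain ⟨l, hl⟩ := exists_hom_of_degree_one (isCharacter_of_irr ν.2)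
      (by rw [← irr_charDegree_cast, hν1, Nat.cast_one])
    have hνM : ∀ m : M, (ν : ↥(P : Subgroup G) → ℂ) ⟨m, hMleP m.2⟩ = 1 := by
      intro m
      have hm : (⟨m, hMleP m.2⟩ : (P : Subgroup G)) ∈ commutator (P : Subgroup G) := by
        have h1 := hMP m.2
        rw [← Subgroup.map_subtype_commutator] at h1
        obtain ⟨y, hy, e⟩ := h1
        exact (Subtype.ext e : y = ⟨m, hMleP m.2⟩) ▸ hy
      rw [hl]
      simp only [MonoidHom.mem_ker.1 (Abelianization.commutator_subset_ker l hm), Units.val_one]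
    have hone : classInner (fun m : M => (χ : G → ℂ) m) (fun _ : M => (1 : ℂ)) ≠ 0 := by
      have e1 : (fun m : M => (χ : G → ℂ) m) =
          ∑ β : IrrCharacter (P : Subgroup G), (d β : ℂ) • fun m : M => (β : ↥(P : Subgroup G) → ℂ) ⟨m, hMleP m.2⟩ :=
        funext fun m => by
          rw [show (χ : G → ℂ) (m : G) = (χ : G → ℂ) ((⟨m, hMleP m.2⟩ : (P : Subgroup G)) : G) from rfl, hd]
          simp [Finset.sum_apply]
      rw [e1, classInner_sum_left]
      choose n hn using fun β : IrrCharacter (P : Subgroup G) => classInner_char_nat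
        (isCharacter_comp (isCharacter_of_irr β.2) (Subgroup.inclusion hMleP)) (isCharacter_of_irr (isIrrCharacter_one (G := M)))
      have hn1 : n ν = 1 := by
        have := hn ν
        rw [show (fun m : M => (ν : ↥(P : Subgroup G) → ℂ) (Subgroup.inclusion hMleP m)) = fun _ => 1 from
          funext hνM, classInner_irr_self isIrrCharacter_one] at this
        exact_mod_cast this.symm
      rw [Finset.sum_congr rfl fun β _ => show classInner ((d β : ℂ) • fun m : M =>
        (β : ↥(P : Subgroup G) → ℂ) ⟨m, hMleP m.2⟩) (fun _ : M => (1 : ℂ)) = ((d β * n β : ℕ) : ℂ) by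
          rw [classInner_smul_left, Nat.cast_mul, ← hn β]; rfl, ← Nat.cast_sum, Nat.cast_ne_zero]
      intro h0
      have := (Finset.sum_eq_zero_iff.1 h0) ν (Finset.mem_univ _)
      rw [hn1, mul_one] at this
      exact hν this
    obtain ⟨g, hg⟩ := exists_conj_of_constituents M χ.2 isIrrCharacter_one
      (isIrrCharacter_linear lam) hone hover
    exact MonoidHom.ext fun m => Units.ext (congrFun hg m).symm
  rw [primeClosure, Subgroup.closure_le]
  rintro x ⟨k, hk⟩
  -- `x` fixes `M` modulo its commutator subgroup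
  have hfix : ∀ l : M →* ℂˣ, ∀ m m' : M, (m' : G) = x * m * x⁻¹ → l m' = l m := by
    intro l m m' hm
    by_contra hne
    obtain ⟨w, j, lam, hwj, hlam, hinv⟩ := exists_inverted M hk l hm hne
    obtain ⟨χ, hχr, hover, -⟩ := exists_real_over M hModd lam w hwj hinv
    exact hlam (hkill lam χ hχr hover)
  set A := Subgroup.zpowers x with hA
  have hAM : A ≤ Subgroup.normalizer (M : Set G) := fun y _ => by
    rw [Subgroup.normalizer_eq_top (H := M)]; trivial
  have hcop : (Nat.card A).Coprime (Nat.card M) := by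
    rw [hA, Nat.card_zpowers, hk]
    exact ((Nat.coprime_two_right.2 hModd).pow_right k).symm
  haveI : Group.IsNilpotent M := hMp.isNilpotent
  set M' := (commutator M).map M.subtype with hM'
  haveI : M'.Normal := inferInstance
  have hfix' : ∀ a ∈ A, ∀ m : M, a * (m : G) * a⁻¹ * (m : G)⁻¹ ∈ M' := by
    intro a ha m
    let mc : M := ⟨a * m * a⁻¹, (inferInstance : M.Normal).conj_mem m m.2 a⟩
    by_contra hno
    have hnc : mc * m⁻¹ ∉ commutator M := fun h => hno ⟨_, h, by simp [mc]⟩
    obtain ⟨l, -, hl⟩ := CfsgLib.Blocks.exists_linear_ne_one (N := commutator M)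
      (fun a b => commutatorElement_def a b ▸ Subgroup.commutator_mem_commutator (Subgroup.mem_top a) (Subgroup.mem_top b)) hnc
    refine hl ?_
    have key : ∀ a ∈ A, ∀ m m' : M, (m' : G) = a * m * a⁻¹ → l m' = l m := by
      intro a ha
      rw [hA, Subgroup.zpowers_eq_closure] at ha
      induction ha using Subgroup.closure_induction with
      | mem y hy => rw [Set.mem_singleton_iff.1 hy]; exact hfix l
      | one => intro m m' e; rw [show m' = m from Subtype.ext (by simpa using e)]
      | mul y z _ _ hy hz =>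
        intro m m' e
        set m₁ : M := ⟨z * m * z⁻¹, (inferInstance : M.Normal).conj_mem m m.2 z⟩
        rw [hy m₁ m' (by simp only [m₁, e]; group), hz m m₁ rfl]
      | inv y _ hy =>
        intro m m' e
        exact (hy m' m (by rw [e]; group)).symm
    rw [map_mul, map_inv, key a ha m mc rfl, mul_inv_cancel]
  intro m hm
  have hsup : M ⊓ Subgroup.centralizer (A : Set G) ⊔ M' = M := by
    refine le_antisymm (sup_le inf_le_left (Subgroup.map_subtype_le _)) fun z hz => ?_
    obtain ⟨c, hc, hzc⟩ := coprime_fixed_quotient hAM hcop (Or.inl inferInstance) (Subgroup.map_subtype_le _)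
      (fun y _ => by rw [Subgroup.normalizer_eq_top (H := M')]; trivial)
      (fun y _ => by rw [Subgroup.normalizer_eq_top (H := M')]; trivial) hz fun a ha => hfix' a ha ⟨z, hz⟩
    have : z = c * (z⁻¹ * c)⁻¹ := by group
    rw [this]
    exact mul_mem (Subgroup.mem_sup_left hc) (Subgroup.mem_sup_right (inv_mem hzc))
  have htop : (Subgroup.centralizer (A : Set G)).subgroupOf M = ⊤ := by
    refine frattini_nongenerating (le_top.antisymm fun z _ => ?_)
    have hz : (z : G) ∈ M ⊓ Subgroup.centralizer (A : Set G) ⊔ M' := hsup.symm ▸ z.2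
    obtain ⟨c, hc, d, hd, e⟩ := Subgroup.mem_sup_of_normal_right.1 hz
    obtain ⟨d', hd', rfl⟩ := hd
    have : z = ⟨c, hc.1⟩ * d' := Subtype.ext e.symm
    rw [this]
    exact mul_mem (Subgroup.mem_sup_left hc.2)
      (Subgroup.mem_sup_right (CfsgLib.commutator_le_frattini_pGroup hMp hd'))
  have h1 : (⟨m, hm⟩ : M) ∈ (Subgroup.centralizer (A : Set G)).subgroupOf M := htop ▸ Subgroup.mem_top _
  exact ((Subgroup.mem_subgroupOf.1 h1) x (Subgroup.mem_zpowers x)).symm

end CfsgLib.RealPPrime
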